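import Cfsg.Agent.H91.Ru.Defs
import Cfsg.Agent.H76.RuTwo.Data

/-! Checks for the Sylow 2-subgroup of the double cover of the Rudvalis group. -/

set_option autoImplicit false

namespace H76.RuTwo

open H91.Ru (lk permT baseI)
open H93.Coset (pathEnd allRange force walk)

/-- The five letters: the generators, the unit, and two inverses. -/
def pT : ℕ → ℕ → ℕ
  | 0, i => permT 0 i
  | 1, i => permT 1 i
  | 2, i => permT 2 i
  | 3, i => lk 16 D.permAI i
  | _, i => lk 16 D.permBI i

/-- The image of a number under a word. -/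
def ev (w : List ℕ) (i : ℕ) : ℕ := pathEnd pT w i

/-- The inverse tables are correct. -/
noncomputable def invChk (i : ℕ) : Bool :=
  (Nat.beq (pT 3 (permT 0 i)) i && Nat.beq (permT 0 (pT 3 i)) i) &&
    ((Nat.beq (pT 4 (permT 1 i)) i && Nat.beq (permT 1 (pT 4 i)) i) &&
      (Nat.blt (pT 3 i) 16240 && Nat.blt (pT 4 i) 16240))

/-- The image of a base vector under a representative. -/
def key (i t : ℕ) : ℕ := (lk 128 D.keys i >>> (14 * t)) % 16384

/-- The parent of a representative. -/
def parI (i : ℕ) : ℕ := lk 16 D.par i % 8192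

/-- The last generator of a representative. -/
def parK (i : ℕ) : ℕ := lk 16 D.par i / 8192

/-- The generators acting on coded elements. -/
def step : ℕ → ℕ → ℕ
  | 0, q => lk 16 D.step0 (q / 4) ^^^ q % 4
  | 1, q => lk 16 D.step1 (q / 4) ^^^ q % 4
  | _, q => lk 16 D.step2 (q / 4) ^^^ q % 4

/-- The word of a representative. -/
def pathOf : ℕ → ℕ → List ℕ
  | 0, _ => []
  | fuel + 1, i => bif i == 0 then [] else pathOf fuel (parI i) ++ [parK i]

/-- The path of a representative. -/
def pathW (i : ℕ) : List ℕ := pathOf 12 i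

/-- The product of coded elements. -/
def mulq (a b : ℕ) : ℕ := (pathW (b / 4)).foldl (fun x k => step k x) a ^^^ b % 4

/-- The word of a central element. -/
def zWord (z : ℕ) : List ℕ :=
  (bif z.testBit 0 then [2, 2] else []) ++ (bif z.testBit 1 then D.tWord else [])

/-- The word of a generator. -/
def gWord (k : ℕ) : List ℕ := D.gWords.getD k []

/-- The code of a generator. -/
def gCode (k : ℕ) : ℕ := step k 0

/-- The tree of representatives. -/
noncomputable def treeChk (i : ℕ) : Bool :=
  bif i == 0 then allRange 0 6 fun t => Nat.beq (key 0 t) (baseI.getD t 0)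
  else (Nat.blt (parI i) i && Nat.blt (parK i) 3) && (Nat.beq (step (parK i) (4 * parI i)) (4 * i) &&
    (pathW i == pathW (parI i) ++ [parK i]))

/-- One generator acts as tabulated. -/
noncomputable def relChk (k i : ℕ) : Bool :=
  force (step k (4 * i)) fun q => Nat.blt q 32768 && allRange 0 6 fun t =>
    force (key i t) fun x => Nat.blt x 16240 && force (key (q / 4) t) fun y =>
      walk pT (gWord k) x fun a => walk pT (zWord (q % 4)) y fun b => Nat.beq a b

/-- The central words commute with the generators on the base. -/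
noncomputable def centChk : Bool :=
  allRange 0 6 fun t => allRange 0 3 fun k =>
    Nat.beq (ev (gWord k ++ D.tWord) (baseI.getD t 0)) (ev (D.tWord ++ gWord k) (baseI.getD t 0)) &&
      Nat.beq (ev (D.tWord ++ D.tWord) (baseI.getD t 0)) (baseI.getD t 0)

/-- Some base vector is moved. -/
def moved : ℕ → List ℕ → Bool
  | _, [] => false
  | q, t :: ts => !(ev (zWord (q % 4)) (key (q / 4) t) == baseI.getD t 0) || moved q ts

/-- Only the identity fixes the base. -/
noncomputable def faithChk (i : ℕ) : Bool :=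
  allRange 0 4 fun z => (Nat.beq i 0 && Nat.beq z 0) || moved (4 * i + z) [1, 2, 3, 4, 5, 0]

/-- Iterated generator. -/
def iterStep (k : ℕ) : ℕ → ℕ → ℕ
  | 0, q => q
  | n + 1, q => iterStep k n (step k q)

/-- Every generator has order dividing sixteen. -/
noncomputable def orderChk (i : ℕ) : Bool :=
  allRange 0 3 fun k => Nat.beq (iterStep k 16 (4 * i)) (4 * i)

/-- The fifteenth power. -/
def invq (q : ℕ) : ℕ :=
  let q2 := mulq q q
  let q4 := mulq q2 q2
  let q8 := mulq q4 q4
  mulq (mulq (mulq q q2) q4) q8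

/-- Inverses, fourth powers and the centre. -/
noncomputable def groupChk (i : ℕ) : Bool :=
  (Nat.beq (mulq (4 * i) (invq (4 * i))) 0 && Nat.blt (invq (4 * i)) 32768) &&
    (!(Nat.beq (mulq (mulq (4 * i) (4 * i)) (mulq (4 * i) (4 * i))) 1) &&
      (Nat.beq i 0 || !(Nat.beq (step (lk 16 D.cwit i) (4 * i)) (mulq (gCode (lk 16 D.cwit i)) (4 * i))) &&
        Nat.blt (lk 16 D.cwit i) 3))

/-- The two central involutions are fourth powers. -/
noncomputable def fourChk : Bool :=
  (Nat.beq (mulq (mulq (4 * D.fourT) (4 * D.fourT)) (mulq (4 * D.fourT) (4 * D.fourT))) 2 &&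
    Nat.blt D.fourT 8192) &&
  (Nat.beq (mulq (mulq (4 * D.fourTZ) (4 * D.fourTZ)) (mulq (4 * D.fourTZ) (4 * D.fourTZ))) 3 &&
    Nat.blt D.fourTZ 8192)

/-- The word of an element. -/
def qWord (q : ℕ) : List ℕ := ((pathW (q / 4)).flatMap gWord) ++ zWord (q % 4)

/-- A root of the list of involutions. -/
noncomputable def rootOK (q : ℕ) : Bool :=
  D.rootWords.any fun e => Nat.beq e.1 q &&
    ((Nat.beq e.2.1 2 || Nat.beq e.2.1 3) &&
      (e.2.2.all (fun g => Nat.blt g 5 && !(Nat.beq g 2)) &&
        allRange 0 6 fun t => Nat.beq (ev (qWord q ++ e.2.2) (baseI.getD t 0))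
          (ev (e.2.2 ++ qWord e.2.1) (baseI.getD t 0))))

/-- The list of involutions, each conjugate to an earlier one or to a root. -/
noncomputable def invListOK : List (ℕ × ℕ × ℕ) → ℕ → Bool
  | [], _ => true
  | e :: l, seen =>
    (Nat.blt e.1 32768 && (Nat.beq (e.1 % 2) 0 &&
      (bif Nat.beq e.2.1 3 then rootOK e.1 else
        Nat.blt e.2.1 3 && (Nat.blt e.2.2 32768 && (Nat.testBit seen (e.2.2 - e.2.2 % 2) &&
          Nat.beq (step e.2.1 e.1) (mulq (gCode e.2.1) e.2.2)))))) &&
    invListOK l (seen ||| 2 ^ e.1)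

/-- The involutions of the list. -/
def invMask : List (ℕ × ℕ × ℕ) → ℕ
  | [] => 0
  | e :: l => 2 ^ e.1 ||| invMask l

/-- The list of involutions is complete. -/
noncomputable def invCompleteChk : Bool :=
  H93.Coset.force (invMask D.invOrder) fun m => allRange 1 8191 fun i =>
    !(Nat.beq (mulq (4 * i) (4 * i)) 0) || (Nat.testBit m (4 * i) && Nat.testBit m (4 * i + 2))

end H76.RuTwo

namespace H76.RuTwo

open H93.Coset (allRange allRange_spec)

/-- Checks over consecutive blocks combine. -/
theorem range_join {n m : ℕ} {f : ℕ → Bool} (h : ∀ c, c < m → allRange (n * c) n f = true)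
    (i : ℕ) (hi : i < n * m) : f i = true := by
  have hn : 0 < n := Nat.pos_of_ne_zero (by rintro rfl; simp at hi)
  have h1 := Nat.div_add_mod i n
  have h2 := Nat.mod_lt i hn
  exact allRange_spec (h (i / n) (Nat.div_lt_of_lt_mul hi)) i (by omega) (by omega)

end H76.RuTwo
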