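import Mathlib
import Cfsg.Prelude.Def_Local
import Cfsg.Prelude.Def_CaseTheorems
import Cfsg.Agent.S0215

/-!
A standard double cover whose fourth powers avoid the central involution and whose centraliser has
cyclic Sylow 2-subgroups is normal.
-/

set_option autoImplicit false

namespace H76.RuTwo

open Cfsg
open scoped Pointwise

/-- The facts about the double cover that are used. -/
structure CoverFacts {A : Type*} [Group A] (z : A) : Prop where
  no_fourth : ∀ a : A, a ^ 4 ≠ z
  invol : ∀ u : A, orderOf u = 2 → u ≠ z →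
    ∃ T : Sylow 2 A, (∀ x ∈ (T : Subgroup A), x * u = u * x) ∧ ∃ x : A, x ^ 4 = u
  central : ∀ (T : Sylow 2 A) (s : A), s ∈ (T : Subgroup A) →
    (∀ x ∈ (T : Subgroup A), s * x = x * s) → s ^ 2 = 1

section

variable {G : Type*} [Group G] [Finite G]

theorem centralizer_eq_normalizer {A : Subgroup G} (hA : IsStandardSubgroup A) {z : G} (hzA : z ∈ A)
    (hz2 : orderOf z = 2) (hcen : ∀ a ∈ A, (∀ b ∈ A, b * a = a * b) → a = 1 ∨ a = z)
    (hzc : ∀ b ∈ A, b * z = z * b) :
    Subgroup.centralizer ({z} : Set G) = Subgroup.normalizer (A : Set G) := by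
  obtain ⟨-, ⟨-, hti⟩, -, hNN⟩ := hA
  have hz1 : z ≠ 1 := fun h => by rw [h, orderOf_one] at hz2; omega
  have hzC : z ∈ Subgroup.centralizer (A : Set G) := Subgroup.mem_centralizer_iff.2 hzc
  refine le_antisymm (fun g hg => ?_) fun n hn => ?_
  · rw [hNN]
    by_contra hg'
    have hodd := hti g hg'
    have hgz : g * z * g⁻¹ = z := by
      rw [Subgroup.mem_centralizer_singleton_iff.1 hg, mul_inv_cancel_right]
    have hmem : z ∈ Subgroup.centralizer (A : Set G) ⊓
        (Subgroup.centralizer (A : Set G)).map (MulAut.conj g).toMonoidHom :=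
      ⟨hzC, z, hzC, hgz⟩
    have h2 : orderOf z ∣ Nat.card ↥(Subgroup.centralizer (A : Set G) ⊓
        (Subgroup.centralizer (A : Set G)).map (MulAut.conj g).toMonoidHom) := by
      rw [← Subgroup.orderOf_mk z hmem]
      exact orderOf_dvd_natCard _
    rw [hz2] at h2
    exact Nat.not_odd_iff_even.2 (even_iff_two_dvd.2 h2) hodd
  · have hn' : ∀ h : G, h ∈ A ↔ n * h * n⁻¹ ∈ A := Subgroup.mem_normalizer_iff.1 hn
    rcases hcen (n * z * n⁻¹) ((hn' z).1 hzA) (fun b hb => by
      have hb' : n⁻¹ * b * n ∈ A := (hn' _).2 (by simpa [mul_assoc] using hb)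
      calc b * (n * z * n⁻¹) = n * (n⁻¹ * b * n * z) * n⁻¹ := by group
        _ = n * (z * (n⁻¹ * b * n)) * n⁻¹ := by rw [hzc _ hb']
        _ = n * z * n⁻¹ * b := by group) with h | h
    · exact absurd (conj_eq_one_iff.1 h) hz1
    · exact Subgroup.mem_centralizer_singleton_iff.2 (mul_inv_eq_iff_eq_mul.1 h)

/-- In a group with cyclic Sylow 2-subgroups a central involution is the only involution. -/
theorem invol_eq {C : Subgroup G} (hR : ∀ R : Sylow 2 ↥C, IsCyclic ↥(R : Subgroup ↥C)) {z i : G}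
    (hz : z ∈ C) (hz2 : orderOf z = 2) (hzc : ∀ b ∈ C, b * z = z * b) (hi : i ∈ C) (hi2 : orderOf i = 2) :
    i = z := by
  let z' : C := ⟨z, hz⟩
  let i' : C := ⟨i, hi⟩
  have hzo : orderOf z' = 2 := by rw [Subgroup.orderOf_mk]; exact hz2
  have hio : orderOf i' = 2 := by rw [Subgroup.orderOf_mk]; exact hi2
  have hcm : Commute i' z' := Subtype.ext (hzc i hi)
  haveI : Fact (Nat.Prime 2) := ⟨Nat.prime_two⟩
  let H : Subgroup ↥C := Subgroup.zpowers i' ⊔ Subgroup.zpowers z'
  have hpz : IsPGroup 2 ↥(Subgroup.zpowers z') := IsPGroup.of_card (n := 1) (by rw [Nat.card_zpowers, hzo, pow_one])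
  have hpi : IsPGroup 2 ↥(Subgroup.zpowers i') := IsPGroup.of_card (n := 1) (by rw [Nat.card_zpowers, hio, pow_one])
  haveI hnorm : (Subgroup.zpowers z').Normal := ⟨fun x hx g => by
    obtain ⟨k, rfl⟩ := hx
    have hg : Commute g z' := Subtype.ext (hzc g g.2)
    rw [(hg.zpow_right k).eq, mul_inv_cancel_right]
    exact ⟨k, rfl⟩⟩
  obtain ⟨R, hRle⟩ := (hpi.to_sup_of_normal_right hpz).exists_le_sylow
  haveI := hR R
  let iR : (R : Subgroup ↥C) := ⟨i', hRle (Subgroup.mem_sup_left (Subgroup.mem_zpowers _))⟩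
  let zR : (R : Subgroup ↥C) := ⟨z', hRle (Subgroup.mem_sup_right (Subgroup.mem_zpowers _))⟩
  have : iR = zR := by
    classical
    letI := Fintype.ofFinite (R : Subgroup ↥C)
    have h2 := IsCyclic.card_pow_eq_one_le (α := (R : Subgroup ↥C)) (n := 2) (by norm_num)
    by_contra hne
    have hsub : ({1, iR, zR} : Finset (R : Subgroup ↥C)) ⊆ Finset.univ.filter fun a => a ^ 2 = 1 := by
      intro a ha
      simp only [Finset.mem_insert, Finset.mem_singleton] at ha
      refine Finset.mem_filter.2 ⟨Finset.mem_univ _, ?_⟩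
      rcases ha with e | e | e <;> subst a
      · exact one_pow 2
      · exact Subtype.ext (orderOf_dvd_iff_pow_eq_one.1 (dvd_of_eq hio))
      · exact Subtype.ext (orderOf_dvd_iff_pow_eq_one.1 (dvd_of_eq hzo))
    have hi1 : iR ≠ 1 := fun h => by
      have : i' = 1 := congrArg Subtype.val h
      rw [this, orderOf_one] at hio; omega
    have hz1 : zR ≠ 1 := fun h => by
      have : z' = 1 := congrArg Subtype.val h
      rw [this, orderOf_one] at hzo; omega
    have hcard : ({1, iR, zR} : Finset (R : Subgroup ↥C)).card = 3 := by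
      simp [Finset.card_insert_of_notMem, hne, hi1.symm, hz1.symm]
    have := (Finset.card_le_card hsub).trans h2
    omega
  exact congrArg (fun x : (R : Subgroup ↥C) => ((x : ↥C) : G)) this

variable {A : Subgroup G} {z : G}

/-- The facts of the situation. -/
structure Setup (A : Subgroup G) (z : G) : Prop where
  zA : z ∈ A
  z2 : orderOf z = 2
  cen : ∀ a ∈ A, (∀ b ∈ A, b * a = a * b) → a = 1 ∨ a = z
  zc : ∀ b ∈ A, b * z = z * b
  norm : Subgroup.centralizer ({z} : Set G) = Subgroup.normalizer (A : Set G)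
  factor : ∀ n ∈ Subgroup.centralizer ({z} : Set G),
    ∃ a ∈ A, ∃ c ∈ Subgroup.centralizer (A : Set G), n = a * c
  cyc : ∀ R : Sylow 2 ↥(Subgroup.centralizer (A : Set G)),
    IsCyclic ↥(R : Subgroup ↥(Subgroup.centralizer (A : Set G)))

theorem Setup.zC (h : Setup A z) : z ∈ Subgroup.centralizer (A : Set G) :=
  Subgroup.mem_centralizer_iff.2 h.zc

theorem Setup.commCA (_h : Setup A z) {a c : G} (ha : a ∈ A)
    (hc : c ∈ Subgroup.centralizer (A : Set G)) : a * c = c * a :=
  Subgroup.mem_centralizer_iff.1 hc a ha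

theorem Setup.inf_eq (h : Setup A z) {x : G} (ha : x ∈ A)
    (hc : x ∈ Subgroup.centralizer (A : Set G)) : x = 1 ∨ x = z :=
  h.cen x ha fun _ hb => h.commCA hb hc

theorem Setup.sq_z (h : Setup A z) : z * z = 1 := by
  have := pow_orderOf_eq_one z
  rwa [h.z2, pow_two] at this

theorem Setup.invol (h : Setup A z) {i : G} (hi : i ∈ Subgroup.centralizer (A : Set G))
    (h2 : i * i = 1) : i = 1 ∨ i = z := by
  by_cases h1 : i = 1
  · exact Or.inl h1
  · refine Or.inr (invol_eq h.cyc h.zC h.z2 (fun b hb => (h.commCA h.zA hb).symm) hi ?_)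
    exact orderOf_eq_prime (by rwa [pow_two]) h1

theorem conj_mem_centralizer {g x z : G} (hx : x * (g * z * g⁻¹) = g * z * g⁻¹ * x) :
    g⁻¹ * x * g ∈ Subgroup.centralizer ({z} : Set G) := by
  refine Subgroup.mem_centralizer_singleton_iff.2 ?_
  calc g⁻¹ * x * g * z = g⁻¹ * (x * (g * z * g⁻¹)) * g := by group
    _ = g⁻¹ * (g * z * g⁻¹ * x) * g := by rw [hx]
    _ = z * (g⁻¹ * x * g) := by group

theorem Setup.no_conj_in (h : Setup A z) (hF : CoverFacts (⟨z, h.zA⟩ : A)) (g : G)
    (hu : g * z * g⁻¹ ∈ A) : g * z * g⁻¹ = z := by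
  by_contra hne
  set u := g * z * g⁻¹ with hu_def
  have hu2 : orderOf u = 2 := by
    rw [hu_def, show g * z * g⁻¹ = MulAut.conj g z from rfl, MulEquiv.orderOf_eq]; exact h.z2
  obtain ⟨T, hT, x, hx⟩ := hF.invol ⟨u, hu⟩ (by rw [Subgroup.orderOf_mk]; exact hu2)
    (fun e => hne (congrArg Subtype.val e))
  have hzu : z * u = u * z := (h.zc u hu).symm
  have hzN : g⁻¹ * z * g ∈ Subgroup.centralizer ({z} : Set G) := conj_mem_centralizer hzu
  by_cases h4 : ∃ c ∈ Subgroup.centralizer (A : Set G), orderOf c = 4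
  · obtain ⟨c, hc, hc4⟩ := h4
    haveI : Fact (Nat.Prime 2) := ⟨Nat.prime_two⟩
    set C := Subgroup.centralizer (A : Set G) with hC
    obtain ⟨R, hR⟩ := (IsPGroup.of_card (n := 2) (p := 2) (G := ↥(Subgroup.zpowers (⟨c, hc⟩ : C)))
      (by rw [Nat.card_zpowers, Subgroup.orderOf_mk, hc4]; norm_num)).exists_le_sylow
    haveI := h.cyc R
    have hcR : (⟨c, hc⟩ : C) ∈ (R : Subgroup C) := hR (Subgroup.mem_zpowers _)
    have hcc : c * c = z := by
      rcases h.invol (mul_mem hc hc) (by
        have := pow_orderOf_eq_one c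
        rw [hc4] at this
        simpa [pow_succ, mul_assoc] using this) with e | e
      · exfalso
        have : orderOf c ∣ 2 := orderOf_dvd_of_pow_eq_one (by rw [pow_two]; exact e)
        rw [hc4] at this
        norm_num at this
      · exact e
    -- the product of the two Sylow subgroups
    let T' : Subgroup G := (T : Subgroup A).map A.subtype
    let R' : Subgroup G := (R : Subgroup C).map C.subtype
    have hTA : ∀ a ∈ T', a ∈ A := by rintro a ⟨b, -, rfl⟩; exact b.2
    have hRC : ∀ a ∈ R', a ∈ C := by rintro a ⟨b, -, rfl⟩; exact b.2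
    have hRab : ∀ a ∈ R', ∀ b ∈ R', a * b = b * a := by
      rintro _ ⟨a, ha, rfl⟩ _ ⟨b, hb, rfl⟩
      have := IsCyclic.commGroup (α := (R : Subgroup C))
      obtain ⟨gen, hgen⟩ := IsCyclic.exists_generator (α := (R : Subgroup C))
      obtain ⟨i, hi⟩ := hgen ⟨a, ha⟩
      obtain ⟨j, hj⟩ := hgen ⟨b, hb⟩
      have e := (Commute.refl gen).zpow_zpow i j
      rw [show gen ^ i = ⟨a, ha⟩ from hi, show gen ^ j = ⟨b, hb⟩ from hj] at e
      exact congrArg (fun y : (R : Subgroup C) => ((y : C) : G)) e.eq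
    have hle : R' ≤ Subgroup.normalizer (T' : Set G) := fun r hr =>
      Subgroup.mem_normalizer_iff.2 fun t => by
        constructor
        · intro ht
          rw [← h.commCA (hTA t ht) (hRC r hr), mul_inv_cancel_right]; exact ht
        · intro ht
          have hcomm := h.commCA (hTA _ ht) (hRC r hr)
          have e : t = r * t * r⁻¹ := by
            have := congrArg (r⁻¹ * ·) hcomm
            simpa [mul_assoc] using this
          rwa [e]
    let P : Subgroup G := T' ⊔ R'
    have hPmem : ∀ y ∈ P, ∃ t ∈ T', ∃ r ∈ R', y = t * r := fun y hy => by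
      have hy' : y ∈ (T' : Set G) * (R' : Set G) := by
        rw [← Subgroup.coe_mul_of_right_le_normalizer_left T' R' hle]; exact hy
      obtain ⟨t, ht, r, hr, e⟩ := hy'
      exact ⟨t, ht, r, hr, e.symm⟩
    have hPN : P ≤ Subgroup.centralizer ({z} : Set G) := sup_le
      (fun t ht => Subgroup.mem_centralizer_singleton_iff.2 (h.zc t (hTA t ht)))
      (fun r hr => Subgroup.mem_centralizer_singleton_iff.2 (h.commCA h.zA (hRC r hr)).symm)
    have hPu : ∀ y ∈ P, y * u = u * y := fun y hy => by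
      obtain ⟨t, ht, r, hr, rfl⟩ := hPmem y hy
      have e1 : t * u = u * t := by
        obtain ⟨b, hb, rfl⟩ := ht
        exact congrArg Subtype.val (hT b hb)
      rw [mul_assoc, ← h.commCA hu (hRC r hr), ← mul_assoc, e1, mul_assoc]
    set N := Subgroup.centralizer ({z} : Set G) with hN
    have hpT : IsPGroup 2 T' := T.isPGroup'.map _
    have hpR : IsPGroup 2 R' := R.isPGroup'.map _
    have hpP : IsPGroup 2 P := hpT.to_sup_of_normal_left' hpR hle
    -- it is a Sylow subgroup of the centraliser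
    have hsyl : ∀ Q : Subgroup G, IsPGroup 2 Q → Q ≤ N → Nat.card Q ≤ Nat.card P := by
      intro Q hQ hQN
      obtain ⟨k, hk⟩ := IsPGroup.iff_card.1 hQ
      obtain ⟨l, hl⟩ := IsPGroup.iff_card.1 hpP
      have hcardN : Nat.card N * 2 = Nat.card A * Nat.card C := by
        classical
        let f : A × C → N := fun p => ⟨p.1 * p.2, by
          refine Subgroup.mem_centralizer_singleton_iff.2 ?_
          rw [mul_assoc, (h.commCA h.zA p.2.2).symm, ← mul_assoc, h.zc _ p.1.2, mul_assoc]⟩
        have hmul : ∀ p q : A × C, f (p * q) = f p * f q := fun p q => Subtype.ext (by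
          show (p.1 : G) * q.1 * ((p.2 : G) * q.2) = p.1 * p.2 * (q.1 * q.2)
          have e := h.commCA q.1.2 p.2.2
          calc (p.1 : G) * q.1 * (p.2 * q.2) = p.1 * ((q.1 : G) * p.2) * q.2 := by group
            _ = p.1 * ((p.2 : G) * q.1) * q.2 := by rw [e]
            _ = p.1 * p.2 * (q.1 * q.2) := by group)
        let φ : A × C →* N := MonoidHom.mk' f hmul
        have hsurj : Function.Surjective φ := fun n => by
          obtain ⟨a, ha, b, hb, e⟩ := h.factor n.1 n.2
          exact ⟨(⟨a, ha⟩, ⟨b, hb⟩), Subtype.ext e.symm⟩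
        have hker : Nat.card φ.ker = 2 := by
          let w : A × C := (⟨z, h.zA⟩, ⟨z, h.zC⟩)
          have : (φ.ker : Set (A × C)) = {1, w} := by
            ext p
            constructor
            · intro hp
              have e : (p.1 : G) * p.2 = 1 := congrArg Subtype.val (MonoidHom.mem_ker.1 hp)
              have hp1 : (p.1 : G) = (p.2 : G)⁻¹ := eq_inv_of_mul_eq_one_left e
              rcases h.inf_eq p.1.2 (hp1 ▸ inv_mem p.2.2) with e1 | e1
              · left
                have e2 : (p.2 : G) = 1 := by rwa [e1, one_mul] at e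
                exact Prod.ext (Subtype.ext e1) (Subtype.ext e2)
              · right
                have e2 : (p.2 : G) = z := by
                  rw [e1] at e
                  exact mul_left_cancel (e.trans h.sq_z.symm)
                exact Prod.ext (Subtype.ext e1) (Subtype.ext e2)
            · rintro (rfl | rfl)
              · exact one_mem _
              · exact MonoidHom.mem_ker.2 (Subtype.ext h.sq_z)
          rw [← SetLike.coe_sort_coe, Nat.card_coe_set_eq, this, Set.ncard_pair]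
          intro e
          have e1 : (1 : G) = z := congrArg (fun p : A × C => (p.1 : G)) e
          have := h.z2
          rw [← e1, orderOf_one] at this
          omega
        have := Subgroup.card_eq_card_quotient_mul_card_subgroup φ.ker
        rw [Nat.card_congr (QuotientGroup.quotientKerEquivOfSurjective φ hsurj).toEquiv, hker,
          Nat.card_prod] at this
        omega
      have hP2 : Nat.card P * 2 = Nat.card T' * Nat.card R' := by
        classical
        let f : T' × R' → P := fun p => ⟨p.1 * p.2,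
          mul_mem (Subgroup.mem_sup_left p.1.2) (Subgroup.mem_sup_right p.2.2)⟩
        have hmul : ∀ p q : T' × R', f (p * q) = f p * f q := fun p q => Subtype.ext (by
          show (p.1 : G) * q.1 * ((p.2 : G) * q.2) = p.1 * p.2 * (q.1 * q.2)
          have e := h.commCA (hTA _ q.1.2) (hRC _ p.2.2)
          calc (p.1 : G) * q.1 * (p.2 * q.2) = p.1 * ((q.1 : G) * p.2) * q.2 := by group
            _ = p.1 * ((p.2 : G) * q.1) * q.2 := by rw [e]
            _ = p.1 * p.2 * (q.1 * q.2) := by group)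
        let φ : T' × R' →* P := MonoidHom.mk' f hmul
        have hsurj : Function.Surjective φ := fun n => by
          obtain ⟨a, ha, b, hb, e⟩ := hPmem n.1 n.2
          exact ⟨(⟨a, ha⟩, ⟨b, hb⟩), Subtype.ext e.symm⟩
        have hzT : z ∈ T' := by
          have hz' : (⟨z, h.zA⟩ : A) ∈ (T : Subgroup A) := by
            haveI : (Subgroup.zpowers (⟨z, h.zA⟩ : A)).Normal := ⟨fun x hx b => by
              obtain ⟨k, rfl⟩ := hx
              have hb : Commute b (⟨z, h.zA⟩ : A) := Subtype.ext (h.zc b b.2)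
              rw [(hb.zpow_right k).eq, mul_inv_cancel_right]
              exact ⟨k, rfl⟩⟩
            have hp : IsPGroup 2 ↥(Subgroup.zpowers (⟨z, h.zA⟩ : A)) :=
              IsPGroup.of_card (n := 1) (by rw [Nat.card_zpowers, Subgroup.orderOf_mk, h.z2, pow_one])
            exact (le_sup_right : Subgroup.zpowers (⟨z, h.zA⟩ : A) ≤ (T : Subgroup A) ⊔ _).trans
              (T.is_maximal' (T.isPGroup'.to_sup_of_normal_right hp) le_sup_left).le
              (Subgroup.mem_zpowers _)
          exact ⟨_, hz', rfl⟩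
        have hzR : z ∈ R' := ⟨⟨z, h.zC⟩, by
          have : (⟨z, h.zC⟩ : C) = ⟨c, hc⟩ * ⟨c, hc⟩ := Subtype.ext hcc.symm
          rw [this]; exact mul_mem hcR hcR, rfl⟩
        have hker : Nat.card φ.ker = 2 := by
          let w : T' × R' := (⟨z, hzT⟩, ⟨z, hzR⟩)
          have : (φ.ker : Set (T' × R')) = {1, w} := by
            ext p
            constructor
            · intro hp
              have e : (p.1 : G) * p.2 = 1 := congrArg Subtype.val (MonoidHom.mem_ker.1 hp)
              have hp1 : (p.1 : G) = (p.2 : G)⁻¹ := eq_inv_of_mul_eq_one_left e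
              rcases h.inf_eq (hTA _ p.1.2) (hp1 ▸ inv_mem (hRC _ p.2.2)) with e1 | e1
              · left
                have e2 : (p.2 : G) = 1 := by rwa [e1, one_mul] at e
                exact Prod.ext (Subtype.ext e1) (Subtype.ext e2)
              · right
                have e2 : (p.2 : G) = z := by
                  rw [e1] at e
                  exact mul_left_cancel (e.trans h.sq_z.symm)
                exact Prod.ext (Subtype.ext e1) (Subtype.ext e2)
            · rintro (rfl | rfl)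
              · exact one_mem _
              · exact MonoidHom.mem_ker.2 (Subtype.ext h.sq_z)
          rw [← SetLike.coe_sort_coe, Nat.card_coe_set_eq, this, Set.ncard_pair]
          intro e
          have e1 : (1 : G) = z := congrArg (fun p : T' × R' => (p.1 : G)) e
          have := h.z2
          rw [← e1, orderOf_one] at this
          omega
        have := Subgroup.card_eq_card_quotient_mul_card_subgroup φ.ker
        rw [Nat.card_congr (QuotientGroup.quotientKerEquivOfSurjective φ hsurj).toEquiv, hker,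
          Nat.card_prod] at this
        omega
      have hTc : Nat.card T' = 2 ^ (Nat.card A).factorization 2 := by
        rw [Subgroup.card_map_of_injective A.subtype_injective]; exact T.card_eq_multiplicity
      have hRc : Nat.card R' = 2 ^ (Nat.card C).factorization 2 := by
        rw [Subgroup.card_map_of_injective C.subtype_injective]; exact R.card_eq_multiplicity
      have hdvd : 2 ^ (k + 1) ∣ Nat.card A * Nat.card C := by
        rw [← hcardN, pow_succ, ← hk]
        exact Nat.mul_dvd_mul_right (Subgroup.card_dvd_of_le hQN) 2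
      have h0 : Nat.card A * Nat.card C ≠ 0 := mul_ne_zero Nat.card_pos.ne' Nat.card_pos.ne'
      rw [Nat.prime_two.pow_dvd_iff_le_factorization h0,
        Nat.factorization_mul Nat.card_pos.ne' Nat.card_pos.ne', Finsupp.add_apply] at hdvd
      have hl2 : 2 ^ (l + 1) = 2 ^ ((Nat.card A).factorization 2 + (Nat.card C).factorization 2) := by
        rw [pow_succ, ← hl, hP2, hTc, hRc, pow_add]
      have := Nat.pow_right_injective le_rfl hl2
      rw [hk, hl]
      exact Nat.pow_le_pow_right (by norm_num) (by omega)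
    -- conjugating back
    let P₂ : Subgroup G := P.map (MulAut.conj g⁻¹).toMonoidHom
    have hP₂N : P₂ ≤ N := by
      rintro _ ⟨y, hy, rfl⟩
      show g⁻¹ * y * g⁻¹⁻¹ ∈ N
      rw [inv_inv]
      exact conj_mem_centralizer (hPu y hy)
    have hcard2 : Nat.card P₂ = Nat.card P := Subgroup.card_map_of_injective (MulEquiv.injective _)
    have hmax : ∀ Q : Subgroup G, IsPGroup 2 Q → Q ≤ N → Nat.card Q = Nat.card P →
        ∃ S : Sylow 2 N, (S : Subgroup N) = Q.subgroupOf N := by
      intro Q hQ hQN hQc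
      refine ⟨⟨Q.subgroupOf N, hQ.comap_subtype, fun {S} hS hle' => ?_⟩, rfl⟩
      refine (Subgroup.eq_of_le_of_card_ge hle' ?_).symm
      have h1 := hsyl (S.map N.subtype) (hS.map _) (by rintro _ ⟨y, -, rfl⟩; exact y.2)
      rw [Subgroup.card_map_of_injective N.subtype_injective] at h1
      rwa [Nat.card_congr (Subgroup.subgroupOfEquivOfLe hQN).toEquiv, hQc]
    obtain ⟨S1, hS1⟩ := hmax P hpP hPN rfl
    obtain ⟨S2, hS2⟩ := hmax P₂ (hpP.map _) hP₂N hcard2
    obtain ⟨n, hn⟩ := MulAction.exists_smul_eq N S2 S1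
    have hconj : ∀ y ∈ P₂, (n : G) * y * (n : G)⁻¹ ∈ P := by
      intro y hy
      have h1 : (⟨y, hP₂N hy⟩ : N) ∈ (S2 : Subgroup N) := by
        rw [hS2]; exact Subgroup.mem_subgroupOf.2 hy
      have h2 : n * ⟨y, hP₂N hy⟩ * n⁻¹ ∈ (S1 : Subgroup N) := by
        rw [← hn, Sylow.coe_subgroup_smul]
        exact Subgroup.smul_mem_pointwise_smul _ (MulAut.conj n) _ h1
      rw [hS1] at h2
      exact Subgroup.mem_subgroupOf.1 h2
    have hcP : c ∈ P := Subgroup.mem_sup_right ⟨⟨c, hc⟩, hcR, rfl⟩
    set d := (n : G) * (g⁻¹ * c * g) * (n : G)⁻¹ with hd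
    have hdP : d ∈ P := hconj _ ⟨c, hcP, by show g⁻¹ * c * g⁻¹⁻¹ = _; rw [inv_inv]⟩
    have hdc : ∀ y ∈ P, d * y = y * d := by
      intro y hy
      -- every element of `P` is such a conjugate
      have hsurj : ∃ x ∈ P, y = (n : G) * (g⁻¹ * x * g) * (n : G)⁻¹ := by
        have himg : P.map ((MulAut.conj (n : G)).toMonoidHom.comp (MulAut.conj g⁻¹).toMonoidHom) = P := by
          refine Subgroup.eq_of_le_of_card_ge ?_ ?_
          · rintro _ ⟨x, hx, rfl⟩
            exact hconj _ ⟨x, hx, rfl⟩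
          · exact (Subgroup.card_map_of_injective fun a b e =>
            (MulAut.conj g⁻¹).injective ((MulAut.conj (n : G)).injective e)).ge
        rw [← himg] at hy
        obtain ⟨x, hx, rfl⟩ := hy
        refine ⟨x, hx, ?_⟩
        show (n : G) * (g⁻¹ * x * g⁻¹⁻¹) * (n : G)⁻¹ = _
        rw [inv_inv]
      obtain ⟨x, hx, rfl⟩ := hsurj
      have hcx : c * x = x * c := by
        obtain ⟨t, ht, r, hr, rfl⟩ := hPmem x hx
        rw [← mul_assoc, ← h.commCA (hTA t ht) hc, mul_assoc, hRab c ⟨⟨c, hc⟩, hcR, rfl⟩ r hr, ← mul_assoc]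
      rw [hd]
      calc (n : G) * (g⁻¹ * c * g) * (n : G)⁻¹ * ((n : G) * (g⁻¹ * x * g) * (n : G)⁻¹)
          = (n : G) * g⁻¹ * (c * x) * g * (n : G)⁻¹ := by group
        _ = (n : G) * g⁻¹ * (x * c) * g * (n : G)⁻¹ := by rw [hcx]
        _ = (n : G) * (g⁻¹ * x * g) * (n : G)⁻¹ * ((n : G) * (g⁻¹ * c * g) * (n : G)⁻¹) := by group
    obtain ⟨_, ⟨s, hs, rfl⟩, r, hr, hsr⟩ := hPmem d hdP
    have hscen : ∀ b ∈ (T : Subgroup A), s * b = b * s := by
      intro b hb
      have e := hdc (b : G) (Subgroup.mem_sup_left ⟨b, hb, rfl⟩)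
      rw [hsr] at e
      refine Subtype.ext (mul_right_cancel (b := r) ?_)
      show (s : G) * b * r = b * s * r
      calc (s : G) * b * r = s * (b * r) := by group
        _ = s * (r * b) := by rw [h.commCA b.2 (hRC r hr)]
        _ = A.subtype s * r * b := by rw [Subgroup.coe_subtype]; group
        _ = b * (A.subtype s * r) := e
        _ = b * s * r := by rw [Subgroup.coe_subtype]; group
    have hs2 : (s : G) * s = 1 := by
      have := congrArg Subtype.val (hF.central T s hs hscen)
      simpa [pow_two] using this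
    have hdd : d * d = r * r := by
      rw [hsr, Subgroup.coe_subtype]
      calc (s : G) * r * (s * r) = s * (r * s) * r := by group
        _ = s * (s * r) * r := by rw [h.commCA s.2 (hRC r hr)]
        _ = (s : G) * s * (r * r) := by group
        _ = r * r := by rw [hs2, one_mul]
    have hw : (n : G) * (g⁻¹ * z * g) * (n : G)⁻¹ = r * r := by
      rw [← hdd, hd, ← hcc]; group
    have hr2 : r * r * (r * r) = 1 := by
      rw [← hw]
      calc _ = (n : G) * g⁻¹ * (z * z) * g * (n : G)⁻¹ := by group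
        _ = 1 := by rw [h.sq_z]; group
    have hz1 : z ≠ 1 := fun e => by have := h.z2; rw [e, orderOf_one] at this; omega
    rcases h.invol (mul_mem (hRC r hr) (hRC r hr)) hr2 with e | e
    · rw [e] at hw
      exact hz1 (conj_eq_one_iff.1 (show g⁻¹ * z * g⁻¹⁻¹ = 1 by rw [inv_inv]; exact conj_eq_one_iff.1 hw))
    · rw [e] at hw
      have hnz : (n : G) * z = z * n := Subgroup.mem_centralizer_singleton_iff.1 n.2
      have : g⁻¹ * z * g = z := by
        refine mul_left_cancel (a := (n : G)) (mul_right_cancel (b := (n : G)⁻¹) (hw.trans ?_))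
        rw [hnz, mul_inv_cancel_right]
      have hgz : z * g = g * z := by
        calc z * g = g * (g⁻¹ * z * g) := by group
          _ = g * z := by rw [this]
      exact hne (by rw [hu_def, ← hgz, mul_inv_cancel_right])
  · have hxu : (x : G) * u = u * x := by
      have e : (x : G) ^ 4 = u := by rw [← Subgroup.coe_pow, hx]
      rw [← e, ← pow_succ, ← pow_succ']
    have hxN : g⁻¹ * (x : G) * g ∈ Subgroup.centralizer ({z} : Set G) := conj_mem_centralizer hxu
    obtain ⟨a, ha, c, hc, hac⟩ := h.factor _ hxN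
    have e4 : a ^ 4 * c ^ 4 = z := by
      have hpow : (g⁻¹ * (x : G) * g) ^ 4 = g⁻¹ * u * g := by
        rw [show u = (x : G) ^ 4 by rw [← Subgroup.coe_pow, hx]]
        simp [pow_succ, mul_assoc]
      rw [hac, Commute.mul_pow (h.commCA ha hc)] at hpow
      rw [hpow, hu_def]; group
    have hc4A : c ^ 4 ∈ A := by
      rw [show c ^ 4 = (a ^ 4)⁻¹ * z by rw [← e4]; group]
      exact mul_mem (inv_mem (pow_mem ha 4)) h.zA
    rcases h.inf_eq hc4A (pow_mem hc 4) with e | e
    · rw [e, mul_one] at e4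
      exact hF.no_fourth ⟨a, ha⟩ (Subtype.ext e4)
    · exfalso
      apply h4
      refine ⟨c ^ 2, pow_mem hc 2, ?_⟩
      have hz1 : z ≠ 1 := fun e' => by have := h.z2; rw [e', orderOf_one] at this; omega
      refine (orderOf_eq_prime_pow (p := 2) (n := 1) ?_ ?_)
      · rw [← pow_mul, show 2 * 2 ^ 1 = 4 by norm_num, e]; exact hz1
      · rw [← pow_mul, show 2 * 2 ^ (1 + 1) = 4 * 2 by norm_num, pow_mul, e, pow_two, h.sq_z]

/-- The central involution has no other conjugate in its centraliser. -/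
theorem Setup.isolated (h : Setup A z) (hF : CoverFacts (⟨z, h.zA⟩ : A)) (g : G)
    (hu : g * z * g⁻¹ ∈ Subgroup.centralizer ({z} : Set G)) : g * z * g⁻¹ = z := by
  have hz1 : z ≠ 1 := fun e => by have := h.z2; rw [e, orderOf_one] at this; omega
  by_contra hne
  by_cases hA : g * z * g⁻¹ ∈ A
  · exact hne (h.no_conj_in hF g hA)
  obtain ⟨a, ha, c, hc, hac⟩ := h.factor _ hu
  have hsq : a * a * (c * c) = 1 := by
    have : g * z * g⁻¹ * (g * z * g⁻¹) = 1 := by
      calc _ = g * (z * z) * g⁻¹ := by group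
        _ = 1 := by rw [h.sq_z]; group
    rw [hac] at this
    calc a * a * (c * c) = a * (a * c) * c := by group
      _ = a * (c * a) * c := by rw [h.commCA ha hc]
      _ = a * c * (a * c) := by group
      _ = 1 := this
  have hccA : c * c ∈ A := by
    rw [show c * c = (a * a)⁻¹ by exact eq_inv_of_mul_eq_one_right hsq]
    exact inv_mem (mul_mem ha ha)
  rcases h.inf_eq hccA (mul_mem hc hc) with e | e
  · rcases h.invol hc e with hc1 | hc1
    · exact hA (by rw [hac, hc1, mul_one]; exact ha)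
    · exact hA (by rw [hac, hc1]; exact mul_mem ha h.zA)
  have haa : a * a = z := by
    rw [e] at hsq
    exact mul_right_cancel (hsq.trans h.sq_z.symm)
  -- the partner
  have hcu : c * (g * z * g⁻¹) = g * z * g⁻¹ * c := by
    rw [hac, ← mul_assoc, ← h.commCA ha hc]
  obtain ⟨a₁, ha₁, c₁, hc₁, hac₁⟩ := h.factor _ (conj_mem_centralizer hcu)
  have hzu : z * (g * z * g⁻¹) = g * z * g⁻¹ * z :=
    (Subgroup.mem_centralizer_singleton_iff.1 hu).symm
  have hw : g⁻¹ * z * g ∈ Subgroup.centralizer ({z} : Set G) := conj_mem_centralizer hzu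
  by_cases hwA : g⁻¹ * z * g ∈ A
  · have hz := h.no_conj_in hF g⁻¹ (by rwa [inv_inv])
    rw [inv_inv] at hz
    refine hne ?_
    calc g * z * g⁻¹ = g * (g⁻¹ * z * g) * g⁻¹ := by rw [hz]
      _ = z := by group
  obtain ⟨a₂, ha₂, c₂, hc₂, hac₂⟩ := h.factor _ hw
  have hw2 : a₂ * c₂ = a₁ * a₁ * (c₁ * c₁) := by
    rw [← hac₂, ← e]
    calc g⁻¹ * (c * c) * g = (g⁻¹ * c * g) * (g⁻¹ * c * g) := by group
      _ = a₁ * (c₁ * a₁) * c₁ := by rw [hac₁]; group
      _ = a₁ * (a₁ * c₁) * c₁ := by rw [h.commCA ha₁ hc₁]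
      _ = a₁ * a₁ * (c₁ * c₁) := by group
  have hsq2 : a₂ * a₂ * (c₂ * c₂) = 1 := by
    calc a₂ * a₂ * (c₂ * c₂) = a₂ * (a₂ * c₂) * c₂ := by group
      _ = a₂ * (c₂ * a₂) * c₂ := by rw [h.commCA ha₂ hc₂]
      _ = a₂ * c₂ * (a₂ * c₂) := by group
      _ = g⁻¹ * (z * z) * g := by rw [← hac₂]; group
      _ = 1 := by rw [h.sq_z]; group
  have hc2A : c₂ * c₂ ∈ A := by
    rw [show c₂ * c₂ = (a₂ * a₂)⁻¹ by exact eq_inv_of_mul_eq_one_right hsq2]
    exact inv_mem (mul_mem ha₂ ha₂)
  rcases h.inf_eq hc2A (mul_mem hc₂ hc₂) with e2 | e2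
  · rcases h.invol hc₂ e2 with hc1 | hc1
    · exact hwA (by rw [hac₂, hc1, mul_one]; exact ha₂)
    · exact hwA (by rw [hac₂, hc1]; exact mul_mem ha₂ h.zA)
  have haa2 : a₂ * a₂ = z := by
    rw [e2] at hsq2
    exact mul_right_cancel (hsq2.trans h.sq_z.symm)
  have he : a₂⁻¹ * (a₁ * a₁) = c₂ * (c₁ * c₁)⁻¹ := by
    rw [inv_mul_eq_iff_eq_mul, ← mul_assoc, hw2]; group
  have heA : a₂⁻¹ * (a₁ * a₁) ∈ A := mul_mem (inv_mem ha₂) (mul_mem ha₁ ha₁)
  have heC : a₂⁻¹ * (a₁ * a₁) ∈ Subgroup.centralizer (A : Set G) := by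
    rw [he]; exact mul_mem hc₂ (inv_mem (mul_mem hc₁ hc₁))
  apply hF.no_fourth ⟨a₁, ha₁⟩
  refine Subtype.ext ?_
  show a₁ ^ 4 = z
  rcases h.inf_eq heA heC with e3 | e3
  · rw [show a₁ ^ 4 = (a₁ * a₁) * (a₁ * a₁) by simp [pow_succ, mul_assoc], ← inv_mul_eq_one.1 e3, haa2]
  · have ha12 : a₁ * a₁ = a₂ * z := inv_mul_eq_iff_eq_mul.1 e3
    rw [show a₁ ^ 4 = (a₁ * a₁) * (a₁ * a₁) by simp [pow_succ, mul_assoc], ha12]
    calc a₂ * z * (a₂ * z) = a₂ * (z * a₂) * z := by group
      _ = a₂ * a₂ * (z * z) := by rw [← h.zc a₂ ha₂]; group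
      _ = z := by rw [haa2, h.sq_z, mul_one]

/-- The standard subgroup is normal. -/
theorem Setup.normal (h : Setup A z) (hF : CoverFacts (⟨z, h.zA⟩ : A)) (hO : oddCore G = ⊥) :
    A.Normal := by
  haveI : Fact (Nat.Prime 2) := ⟨Nat.prime_two⟩
  set N := Subgroup.centralizer ({z} : Set G) with hN
  have hzN : z ∈ N := Subgroup.mem_centralizer_singleton_iff.2 rfl
  obtain ⟨S⟩ : Nonempty (Sylow 2 N) := inferInstance
  have hzS : (⟨z, hzN⟩ : N) ∈ (S : Subgroup N) := by
    haveI : (Subgroup.zpowers (⟨z, hzN⟩ : N)).Normal := ⟨fun x hx b => by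
      obtain ⟨k, rfl⟩ := hx
      have hb : Commute b (⟨z, hzN⟩ : N) := Subtype.ext (Subgroup.mem_centralizer_singleton_iff.1 b.2)
      rw [(hb.zpow_right k).eq, mul_inv_cancel_right]
      exact ⟨k, rfl⟩⟩
    have hp : IsPGroup 2 ↥(Subgroup.zpowers (⟨z, hzN⟩ : N)) :=
      IsPGroup.of_card (n := 1) (by rw [Nat.card_zpowers, Subgroup.orderOf_mk, h.z2, pow_one])
    exact (le_sup_right : Subgroup.zpowers (⟨z, hzN⟩ : N) ≤ (S : Subgroup N) ⊔ _).trans
      (S.is_maximal' (S.isPGroup'.to_sup_of_normal_right hp) le_sup_left).le (Subgroup.mem_zpowers _)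
  obtain ⟨P, hSP⟩ := (S.isPGroup'.map N.subtype).exists_le_sylow
  -- a Sylow subgroup of the centraliser is a Sylow subgroup
  have hzP : z ∈ (P : Subgroup G) := hSP ⟨_, hzS, rfl⟩
  have hPN : ∀ y ∈ (P : Subgroup G), y ∈ N := by
    -- the elements normalising a Sylow subgroup of the centraliser fix the involution
    let S' := (S : Subgroup N).map N.subtype
    have hstep : ∀ y : G, y ∈ Subgroup.normalizer (S' : Set G) → y ∈ N := by
      intro y hy
      have hy' : y * z * y⁻¹ ∈ S' := (Subgroup.mem_normalizer_iff.1 hy z).1 ⟨_, hzS, rfl⟩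
      obtain ⟨w, hw, hwz⟩ := hy'
      have := h.isolated hF y (hwz ▸ w.2)
      exact Subgroup.mem_centralizer_singleton_iff.2 (mul_inv_eq_iff_eq_mul.1 this)
    by_contra hcon
    simp only [not_forall] at hcon
    obtain ⟨y, hy, hyN⟩ := hcon
    haveI : Group.IsNilpotent (P : Subgroup G) := P.isPGroup'.isNilpotent
    let K : Subgroup (P : Subgroup G) := S'.subgroupOf P
    have hKne : K ≠ ⊤ := fun hK => hyN (by
      have : (⟨y, hy⟩ : (P : Subgroup G)) ∈ K := hK ▸ Subgroup.mem_top _
      obtain ⟨w, -, hwy⟩ := Subgroup.mem_subgroupOf.1 this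
      have hwy' : (w : G) = y := hwy
      exact hwy' ▸ w.2)
    obtain ⟨q, hq1, hq2⟩ := SetLike.exists_of_lt (Group.normalizerCondition_of_isNilpotent K (lt_top_iff_ne_top.2 hKne))
    have hqS : (q : G) ∈ Subgroup.normalizer (S' : Set G) := Subgroup.mem_normalizer_iff.2 fun x => by
      constructor
      · intro hx
        have hxP : x ∈ (P : Subgroup G) := hSP hx
        have := (Subgroup.mem_normalizer_iff.1 hq1 ⟨x, hxP⟩).1 (Subgroup.mem_subgroupOf.2 hx)
        exact Subgroup.mem_subgroupOf.1 this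
      · intro hx
        have hxP' : (q : G) * x * (q : G)⁻¹ ∈ (P : Subgroup G) := hSP hx
        have hxP : x ∈ (P : Subgroup G) := by
          have := mul_mem (mul_mem (inv_mem q.2) hxP') q.2
          simpa [mul_assoc] using this
        exact Subgroup.mem_subgroupOf.1
          ((Subgroup.mem_normalizer_iff.1 hq1 ⟨x, hxP⟩).2 (Subgroup.mem_subgroupOf.2 hx))
    have hqN : (q : G) ∈ N := hstep _ hqS
    -- so the enlarged group is a 2-subgroup of the centraliser
    apply hq2
    let Q : Subgroup N := (P : Subgroup G).subgroupOf N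
    have hQ : IsPGroup 2 Q := P.isPGroup'.comap_subtype
    have hle : (S : Subgroup N) ≤ Q := fun w hw => Subgroup.mem_subgroupOf.2 (hSP ⟨w, hw, rfl⟩)
    have := S.is_maximal' hQ hle
    refine Subgroup.mem_subgroupOf.2 ⟨⟨q, hqN⟩, ?_, rfl⟩
    show (⟨q, hqN⟩ : N) ∈ (S : Subgroup N)
    rw [← this]
    exact Subgroup.mem_subgroupOf.2 q.2
  obtain ⟨M, hMn, hModd, hM⟩ := Cfsg.Agent.S0215.result P z h.z2 hzP
    fun g hg => h.isolated hF g (hPN _ hg)
  have hMbot : M = ⊥ := le_bot_iff.1 (hO ▸ le_sSup ⟨hMn, hModd.coprime_two_right⟩)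
  refine Subgroup.normalizer_eq_top_iff.1 ?_
  rw [← h.norm]
  refine eq_top_iff.2 fun y _ => Subgroup.mem_centralizer_singleton_iff.2 ?_
  have := hM y
  rw [hMbot, Subgroup.mem_bot] at this
  have e : z * y * z⁻¹ = y := mul_inv_eq_one.1 this
  calc y * z = z * y * z⁻¹ * z := by rw [e]
    _ = z * y := by group

end

end H76.RuTwo
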