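import Mathlib
import Cfsg.Agent.H91.Ru.Quot
import Cfsg.Agent.H76.RuTwo.Chk.Inv
import Cfsg.Agent.H76.RuTwo.Chk.Tree
import Cfsg.Agent.H76.RuTwo.Chk.Rel0
import Cfsg.Agent.H76.RuTwo.Chk.Rel1
import Cfsg.Agent.H76.RuTwo.Chk.Rel2
import Cfsg.Agent.H76.RuTwo.Chk.Faith
import Cfsg.Agent.H76.RuTwo.Chk.Order
import Cfsg.Agent.H76.RuTwo.Chk.Group
import Cfsg.Agent.H76.RuTwo.Chk.Invol

/-!
A subgroup of order 32768 of the lattice automorphism group, described by codes.
-/

set_option autoImplicit false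
set_option maxRecDepth 10000

namespace H76.RuTwo

open Cfsg.Spor H91.Ru
open H93.Coset (allRange allRange_spec pathEnd walk_eq force_eq)

/-! ### words in five letters -/

/-- The element of a letter. -/
noncomputable def gen5 : ℕ → ↥fourRu
  | 0 => genF 0
  | 1 => genF 1
  | 2 => genF 2
  | 3 => (genF 0)⁻¹
  | _ => (genF 1)⁻¹

/-- The element of a word, first letter acting first. -/
noncomputable def wE : List ℕ → ↥fourRu
  | [] => 1
  | g :: w => wE w * gen5 g

theorem wE_append : ∀ u v : List ℕ, wE (u ++ v) = wE v * wE u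
  | [], v => by simp [wE]
  | g :: u, v => by
    show wE (u ++ v) * gen5 g = wE v * (wE u * gen5 g)
    rw [wE_append u v, mul_assoc]

theorem inv_spec {i : ℕ} (h : i < 16240) :
    permT 0 (pT 3 i) = i ∧ permT 1 (pT 4 i) = i ∧ pT 3 i < 16240 ∧ pT 4 i < 16240 := by
  have e := allRange_spec inv_ok i (Nat.zero_le _) (by omega)
  simp only [invChk, Bool.and_eq_true, Nat.beq_eq, Nat.blt_eq] at e
  exact ⟨e.1.2, e.2.1.2, e.2.2.1, e.2.2.2⟩

theorem pT_high : ∀ (g i : ℕ), pT (g + 4) i = pT 4 i := fun _ _ => rfl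

theorem pT_lt : ∀ (g : ℕ) {i : ℕ}, i < 16240 → pT g i < 16240
  | 0, _, h => permT_lt 0 h
  | 1, _, h => permT_lt 1 h
  | 2, _, h => permT_lt 2 h
  | 3, _, h => (inv_spec h).2.2.1
  | g + 4, i, h => pT_high g i ▸ (inv_spec h).2.2.2

theorem inv_vec (φ : ↥fourRu) {a b : ℕ} (h : φ.1 (vec a) = vec b) : (φ⁻¹).1 (vec b) = vec a := by
  show φ.1⁻¹ (vec b) = vec a
  rw [← h]
  exact Equiv.symm_apply_apply _ _

theorem gen5_vec : ∀ (g : ℕ) {i : ℕ}, i < 16240 → (gen5 g).1 (vec i) = vec (pT g i)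
  | 0, _, h => genF_vec 0 h
  | 1, _, h => genF_vec 1 h
  | 2, _, h => genF_vec 2 h
  | 3, i, h => inv_vec (genF 0) (by rw [genF_vec 0 (inv_spec h).2.2.1, (inv_spec h).1])
  | g + 4, i, h => by
    rw [pT_high]
    exact inv_vec (genF 1) (by rw [genF_vec 1 (inv_spec h).2.2.2, (inv_spec h).2.1])

theorem ev_lt : ∀ (w : List ℕ) {i : ℕ}, i < 16240 → ev w i < 16240
  | [], _, h => h
  | g :: w, _, h => ev_lt w (pT_lt g h)

theorem wE_vec : ∀ (w : List ℕ) {i : ℕ}, i < 16240 → (wE w).1 (vec i) = vec (ev w i)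
  | [], _, _ => rfl
  | g :: w, i, h => by
    show (wE w).1 ((gen5 g).1 (vec i)) = _
    rw [gen5_vec g h, wE_vec w (pT_lt g h)]
    rfl

theorem ev_append : ∀ (u v : List ℕ) (i : ℕ), ev (u ++ v) i = ev v (ev u i)
  | [], _, _ => rfl
  | g :: u, v, i => ev_append u v (pT g i)

theorem eq_of_base {φ ψ : ↥fourRu} (h : ∀ t < 6, φ.1 (sv t) = ψ.1 (sv t)) : φ = ψ := by
  have : ψ⁻¹ * φ ∈ fix 6 := fun t ht => by
    show ψ.1⁻¹ (φ.1 (sv t)) = sv t
    rw [h t ht]
    exact Equiv.symm_apply_apply _ _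
  exact (inv_mul_eq_one.1 (fix_six this)).symm

theorem wE_eq {u v : List ℕ} (h : ∀ t < 6, ev u (baseI.getD t 0) = ev v (baseI.getD t 0)) :
    wE u = wE v := eq_of_base fun t ht => by
  rw [← baseI_sv ht, wE_vec u (base_lt ht), wE_vec v (base_lt ht), h t ht]

/-! ### the central part -/

/-- Central elements. -/
noncomputable def zE (z : ℕ) : ↥fourRu := wE (zWord z)

/-- The generators. -/
noncomputable def gE (k : ℕ) : ↥fourRu := wE (gWord k)

theorem zWord_mul : ∀ a : Fin 4, ∀ b : Fin 4, ∀ t : Fin 6,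
    ev (zWord b.val ++ zWord a.val) (baseI.getD t.val 0) = ev (zWord (a.val ^^^ b.val)) (baseI.getD t.val 0) := by
  decide +kernel

theorem zWord_comm : ∀ z : Fin 4, ∀ k : Fin 3, ∀ t : Fin 6,
    ev (gWord k.val ++ zWord z.val) (baseI.getD t.val 0) = ev (zWord z.val ++ gWord k.val) (baseI.getD t.val 0) := by
  decide +kernel

theorem zE_mul {a b : ℕ} (ha : a < 4) (hb : b < 4) : zE a * zE b = zE (a ^^^ b) := by
  rw [zE, zE, ← wE_append]
  exact wE_eq fun t ht => zWord_mul ⟨a, ha⟩ ⟨b, hb⟩ ⟨t, ht⟩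

theorem zE_zero : zE 0 = 1 := rfl

theorem zE_gE {z k : ℕ} (hz : z < 4) (hk : k < 3) : zE z * gE k = gE k * zE z := by
  rw [zE, gE, ← wE_append, ← wE_append]
  exact wE_eq fun t ht => zWord_comm ⟨z, hz⟩ ⟨k, hk⟩ ⟨t, ht⟩

theorem zE_sq {z : ℕ} (hz : z < 4) : zE z * zE z = 1 := by
  rw [zE_mul hz hz, Nat.xor_self, zE_zero]

/-- The distinguished involution. -/
noncomputable def negE : ↥fourRu := zE 1

theorem negE_eq : negE = sI * sI := by
  show (1 * genF 2) * genF 2 = _
  rw [one_mul]; rfl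

theorem negE_central (φ : ↥fourRu) : φ * negE = negE * φ := by
  rw [negE_eq, ← mul_assoc, sI_central, mul_assoc, sI_central, ← mul_assoc]

/-! ### representatives -/

/-- A representative. -/
noncomputable def el (i : ℕ) : ↥fourRu := wE ((pathW i).flatMap gWord)

/-- A coded element. -/
noncomputable def elq (q : ℕ) : ↥fourRu := wE (qWord q)

theorem elq_eq (q : ℕ) : elq q = zE (q % 4) * el (q / 4) := wE_append _ _

theorem pathW_zero : pathW 0 = [] := rfl

theorem elq_small {z : ℕ} (hz : z < 4) : elq z = zE z := by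
  rw [elq_eq, Nat.mod_eq_of_lt hz, show z / 4 = 0 by omega, el, pathW_zero]
  show zE z * 1 = zE z
  rw [mul_one]

theorem elq_zero : elq 0 = 1 := by rw [elq_small (by norm_num), zE_zero]

theorem tree_spec {i : ℕ} (hi : i < 8192) (h0 : i ≠ 0) :
    parI i < i ∧ parK i < 3 ∧ step (parK i) (4 * parI i) = 4 * i ∧ pathW i = pathW (parI i) ++ [parK i] := by
  have e := allRange_spec tree_ok i (Nat.zero_le _) (by omega)
  rw [treeChk, show (i == 0) = false by simpa using h0, cond_false] at e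
  simp only [Bool.and_eq_true, Nat.beq_eq, Nat.blt_eq, beq_iff_eq] at e
  exact ⟨e.1.1, e.1.2, e.2.1, e.2.2⟩

theorem rel_spec {k i : ℕ} (hk : k < 3) (hi : i < 8192) :
    step k (4 * i) < 32768 ∧ ∀ t < 6, key i t < 16240 ∧
      ev (gWord k) (key i t) = ev (zWord (step k (4 * i) % 4)) (key (step k (4 * i) / 4) t) := by
  have e : relChk k i = true := by
    match k, hk with
    | 0, _ => exact rel0_ok i hi
    | 1, _ => exact rel1_ok i hi
    | 2, _ => exact rel2_ok i hi
  simp only [relChk, force_eq, Bool.and_eq_true, Nat.blt_eq] at e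
  refine ⟨e.1, fun t ht => ?_⟩
  have e' := allRange_spec e.2 t (Nat.zero_le _) (by omega)
  simp only [force_eq, walk_eq, Bool.and_eq_true, Nat.blt_eq, Nat.beq_eq] at e'
  exact e'

theorem key_eq : ∀ (i : ℕ), i < 8192 → ∀ t < 6, key i t = ev ((pathW i).flatMap gWord) (baseI.getD t 0) := by
  intro i
  induction i using Nat.strong_induction_on with
  | _ i ih =>
    intro hi t ht
    by_cases h0 : i = 0
    · subst h0
      have e := allRange_spec tree_ok 0 (Nat.zero_le _) (by omega)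
      rw [treeChk, show ((0 : ℕ) == 0) = true from rfl, cond_true] at e
      have e' := allRange_spec e t (Nat.zero_le _) (by omega)
      rw [Nat.beq_eq] at e'
      exact e'
    obtain ⟨hp, hk, hstep, hpath⟩ := tree_spec hi h0
    have e := ((rel_spec hk (show parI i < 8192 by omega)).2 t ht).2
    rw [hstep, show 4 * i % 4 = 0 by omega, show 4 * i / 4 = i by omega] at e
    rw [hpath, List.flatMap_append, ev_append, ← ih _ hp (by omega) t ht, List.flatMap_singleton, e]
    rfl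

theorem el_vec {i : ℕ} (hi : i < 8192) {t : ℕ} (ht : t < 6) : (el i).1 (sv t) = vec (key i t) := by
  rw [key_eq i hi t ht, ← baseI_sv ht]
  exact wE_vec _ (base_lt ht)

theorem gE_el {k i : ℕ} (hk : k < 3) (hi : i < 8192) : gE k * el i = elq (step k (4 * i)) := by
  obtain ⟨hlt, h⟩ := rel_spec hk hi
  have hj : step k (4 * i) / 4 < 8192 := by omega
  refine eq_of_base fun t ht => ?_
  rw [elq_eq]
  show (gE k).1 ((el i).1 (sv t)) = (zE _).1 ((el _).1 (sv t))
  rw [el_vec hi ht, el_vec hj ht, gE, zE, wE_vec _ (h t ht).1,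
    wE_vec _ (by rw [key_eq _ hj t ht]; exact ev_lt _ (base_lt ht)), (h t ht).2]

/-! ### the code arithmetic -/

theorem xor_small (a : ℕ) {z : ℕ} (hz : z < 4) :
    (a ^^^ z) / 4 = a / 4 ∧ (a ^^^ z) % 4 = a % 4 ^^^ z := by
  constructor
  · have h := Nat.shiftRight_xor_distrib (a := a) (b := z) (i := 2)
    simp only [Nat.shiftRight_eq_div_pow] at h
    rw [show z / 2 ^ 2 = 0 by omega, Nat.xor_zero] at h
    simpa using h
  · have h := Nat.xor_mod_two_pow (a := a) (b := z) (n := 2)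
    rw [show z % 2 ^ 2 = z by omega] at h
    simpa using h

theorem elq_xor (a : ℕ) {z : ℕ} (hz : z < 4) : elq (a ^^^ z) = zE z * elq a := by
  obtain ⟨h1, h2⟩ := xor_small a hz
  rw [elq_eq, elq_eq, h1, h2, Nat.xor_comm, ← zE_mul hz (Nat.mod_lt _ (by norm_num)), mul_assoc]

theorem split_q (q : ℕ) : 4 * (q / 4) ^^^ q % 4 = q := by
  obtain ⟨h1, h2⟩ := xor_small (4 * (q / 4)) (Nat.mod_lt q (show 4 > 0 by norm_num))
  rw [show 4 * (q / 4) % 4 = 0 by omega, Nat.zero_xor] at h2
  omega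

theorem step_xor {k : ℕ} (hk : k < 3) (a : ℕ) {z : ℕ} (hz : z < 4) : step k (a ^^^ z) = step k a ^^^ z := by
  obtain ⟨h1, h2⟩ := xor_small a hz
  match k, hk with
  | 0, _ => simp only [step, h1, h2, Nat.xor_assoc]
  | 1, _ => simp only [step, h1, h2, Nat.xor_assoc]
  | 2, _ => simp only [step, h1, h2, Nat.xor_assoc]

theorem step_lt {k q : ℕ} (hk : k < 3) (hq : q < 32768) : step k q < 32768 := by
  rw [← split_q q, step_xor hk _ (Nat.mod_lt _ (by norm_num))]
  exact Nat.xor_lt_two_pow (n := 15) (rel_spec hk (show q / 4 < 8192 by omega)).1 (by omega)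

theorem elq_step {k q : ℕ} (hk : k < 3) (hq : q < 32768) : elq (step k q) = gE k * elq q := by
  have hz : q % 4 < 4 := Nat.mod_lt _ (by norm_num)
  rw [← split_q q, step_xor hk _ hz, elq_xor _ hz, elq_xor _ hz, ← gE_el hk (show q / 4 < 8192 by omega),
    ← mul_assoc, zE_gE hz hk, mul_assoc]
  congr 2
  rw [elq_eq, show 4 * (q / 4) % 4 = 0 by omega, show 4 * (q / 4) / 4 = q / 4 by omega, zE_zero, one_mul]

theorem elq_gCode {k : ℕ} (hk : k < 3) : elq (gCode k) = gE k := by
  rw [gCode, elq_step hk (by norm_num), elq_zero, mul_one]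

theorem gCode_lt {k : ℕ} (hk : k < 3) : gCode k < 32768 := step_lt hk (by norm_num)

theorem path_lt : ∀ (i : ℕ), i < 8192 → ∀ k ∈ pathW i, k < 3 := by
  intro i
  induction i using Nat.strong_induction_on with
  | _ i ih =>
    intro hi k hk
    by_cases h0 : i = 0
    · subst h0; simp [pathW_zero] at hk
    obtain ⟨hp, hpk, -, hpath⟩ := tree_spec hi h0
    rw [hpath, List.mem_append] at hk
    rcases hk with hk | hk
    · exact ih _ hp (by omega) k hk
    · rw [List.mem_singleton.1 hk]; exact hpk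

theorem fold_spec : ∀ (l : List ℕ), (∀ k ∈ l, k < 3) → ∀ a < 32768,
    l.foldl (fun x k => step k x) a < 32768 ∧
      elq (l.foldl (fun x k => step k x) a) = wE (l.flatMap gWord) * elq a
  | [], _, a, ha => ⟨ha, by simp [wE]⟩
  | k :: l, h, a, ha => by
    obtain ⟨h1, h2⟩ := fold_spec l (fun x hx => h x (List.mem_cons_of_mem _ hx)) (step k a)
      (step_lt (h k (List.mem_cons_self ..)) ha)
    refine ⟨h1, h2.trans ?_⟩
    rw [elq_step (h k (List.mem_cons_self ..)) ha, List.flatMap_cons, wE_append, mul_assoc]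
    rfl

theorem mulq_spec {a b : ℕ} (ha : a < 32768) (hb : b < 32768) :
    mulq a b < 32768 ∧ elq (mulq a b) = elq b * elq a := by
  have hz : b % 4 < 4 := Nat.mod_lt _ (by norm_num)
  obtain ⟨h1, h2⟩ := fold_spec (pathW (b / 4)) (path_lt _ (by omega)) a ha
  refine ⟨Nat.xor_lt_two_pow (n := 15) h1 (by omega), ?_⟩
  rw [mulq, elq_xor _ hz, h2, elq_eq b, mul_assoc]
  rfl

/-! ### faithfulness -/

theorem elq_sv {q : ℕ} (hq : q < 32768) {t : ℕ} (ht : t < 6) :
    (elq q).1 (sv t) = vec (ev (zWord (q % 4)) (key (q / 4) t)) := by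
  rw [elq_eq]
  show (zE _).1 ((el _).1 (sv t)) = _
  have hj : q / 4 < 8192 := by omega
  rw [el_vec hj ht, zE, wE_vec _ (by rw [key_eq _ hj t ht]; exact ev_lt _ (base_lt ht))]

theorem moved_spec : ∀ (q : ℕ) (l : List ℕ), moved q l = true →
    ∃ t ∈ l, ev (zWord (q % 4)) (key (q / 4) t) ≠ baseI.getD t 0
  | q, [], h => by simp [moved] at h
  | q, t :: l, h => by
    rw [moved, Bool.or_eq_true] at h
    rcases h with h | h
    · exact ⟨t, List.mem_cons_self .., by simpa using h⟩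
    · obtain ⟨u, hu, e⟩ := moved_spec q l h
      exact ⟨u, List.mem_cons_of_mem _ hu, e⟩

theorem elq_eq_one {q : ℕ} (hq : q < 32768) (h : elq q = 1) : q = 0 := by
  by_contra h0
  have e := allRange_spec (faith_ok (q / 4) (by omega)) (q % 4) (Nat.zero_le _) (by omega)
  rw [Bool.or_eq_true, Bool.and_eq_true, Nat.beq_eq, Nat.beq_eq, show 4 * (q / 4) + q % 4 = q by omega] at e
  rcases e with e | e
  · omega
  obtain ⟨t, ht, hne⟩ := moved_spec q _ e
  have ht6 : t < 6 := by
    simp only [List.mem_cons, List.not_mem_nil, or_false] at ht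
    omega
  have hj : q / 4 < 8192 := by omega
  apply hne
  refine vec_inj (ev_lt _ (by rw [key_eq _ hj t ht6]; exact ev_lt _ (base_lt ht6))) (base_lt ht6) ?_
  rw [← elq_sv hq ht6, baseI_sv ht6, h]
  rfl

theorem iterStep_xor {k : ℕ} (hk : k < 3) {z : ℕ} (hz : z < 4) :
    ∀ (n a : ℕ), iterStep k n (a ^^^ z) = iterStep k n a ^^^ z
  | 0, _ => rfl
  | n + 1, a => by
    show iterStep k n (step k (a ^^^ z)) = _
    rw [step_xor hk a hz, iterStep_xor hk hz n]
    rfl

theorem iterStep_full {k q : ℕ} (hk : k < 3) (hq : q < 32768) : iterStep k 16 q = q := by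
  have e := allRange_spec (order_ok (q / 4) (by omega)) k (Nat.zero_le _) (by omega)
  rw [Nat.beq_eq] at e
  rw [← split_q q, iterStep_xor hk (Nat.mod_lt _ (by norm_num)), e]

theorem step_inj {k a b : ℕ} (hk : k < 3) (ha : a < 32768) (hb : b < 32768) (h : step k a = step k b) :
    a = b := by
  rw [← iterStep_full hk ha, ← iterStep_full hk hb]
  show iterStep k 15 (step k a) = iterStep k 15 (step k b)
  rw [h]

theorem fold_inj : ∀ (l : List ℕ), (∀ k ∈ l, k < 3) → ∀ a < 32768, ∀ b < 32768,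
    l.foldl (fun x k => step k x) a = l.foldl (fun x k => step k x) b → a = b
  | [], _, _, _, _, _, h => h
  | k :: l, h, a, ha, b, hb, e => by
    have hk := h k (List.mem_cons_self ..)
    exact step_inj hk ha hb
      (fold_inj l (fun x hx => h x (List.mem_cons_of_mem _ hx)) _ (step_lt hk ha) _ (step_lt hk hb) e)

theorem mulq_inj {a b c : ℕ} (ha : a < 32768) (hb : b < 32768) (hc : c < 32768)
    (h : mulq a c = mulq b c) : a = b :=
  fold_inj _ (path_lt _ (by omega)) a ha b hb (Nat.xor_left_inj.1 h)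

/-- The group of coded elements. -/
noncomputable def sylT : Subgroup ↥fourRu where
  carrier := {φ | ∃ q < 32768, elq q = φ}
  one_mem' := ⟨0, by norm_num, elq_zero⟩
  mul_mem' := by
    rintro _ _ ⟨a, ha, rfl⟩ ⟨b, hb, rfl⟩
    exact ⟨mulq b a, (mulq_spec hb ha).1, (mulq_spec hb ha).2⟩
  inv_mem' := by
    rintro _ ⟨a, ha, rfl⟩
    haveI : Finite ↥fourRu := Nat.finite_of_card_ne_zero (by rw [card_fourRu]; norm_num)
    have hpow : ∀ n : ℕ, ∃ q < 32768, elq q = elq a ^ n := fun n => by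
      induction n with
      | zero => exact ⟨0, by norm_num, by rw [elq_zero, pow_zero]⟩
      | succ n ih =>
        obtain ⟨q, hq, e⟩ := ih
        exact ⟨mulq a q, (mulq_spec ha hq).1, by rw [(mulq_spec ha hq).2, e, pow_succ]⟩
    obtain ⟨q, hq, e⟩ := hpow (orderOf (elq a) - 1)
    refine ⟨q, hq, e.trans (eq_inv_of_mul_eq_one_left ?_)⟩
    rw [← pow_succ, Nat.sub_add_cancel (orderOf_pos _), pow_orderOf_eq_one]

theorem elq_inj {a b : ℕ} (ha : a < 32768) (hb : b < 32768) (h : elq a = elq b) : a = b := by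
  obtain ⟨r, hr, e⟩ := inv_mem (show elq b ∈ sylT from ⟨b, hb, rfl⟩)
  refine mulq_inj ha hb hr ?_
  rw [elq_eq_one (mulq_spec ha hr).1 (by rw [(mulq_spec ha hr).2, e, h, inv_mul_cancel]),
    elq_eq_one (mulq_spec hb hr).1 (by rw [(mulq_spec hb hr).2, e, inv_mul_cancel])]

theorem sylT_card : Nat.card sylT = 32768 := by
  have h : (sylT : Set ↥fourRu) = elq '' (Set.Iio 32768) := by
    ext φ
    simp only [SetLike.mem_coe, Set.mem_image, Set.mem_Iio]
    exact Iff.rfl
  have hinj : Set.InjOn elq (Set.Iio 32768) := fun a ha b hb e => elq_inj ha hb e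
  rw [← SetLike.coe_sort_coe, Nat.card_coe_set_eq, h, hinj.ncard_image,
    show Set.Iio 32768 = ((Finset.range 32768 : Finset ℕ) : Set ℕ) by ext; simp, Set.ncard_coe_finset, Finset.card_range]

theorem zE_el {z : ℕ} (hz : z < 4) {i : ℕ} (hi : i < 8192) : zE z * el i = el i * zE z := by
  have : ∀ l : List ℕ, (∀ k ∈ l, k < 3) → zE z * wE (l.flatMap gWord) = wE (l.flatMap gWord) * zE z := by
    intro l
    induction l with
    | nil => intro _; simp [wE]
    | cons k l ih =>
      intro h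
      rw [List.flatMap_cons, wE_append, ← mul_assoc, ih fun x hx => h x (List.mem_cons_of_mem _ hx),
        mul_assoc, show wE (gWord k) = gE k from rfl, zE_gE hz (h k (List.mem_cons_self ..)), mul_assoc]
  exact this _ (path_lt i hi)

theorem zE_elq {z q : ℕ} (hz : z < 4) (hq : q < 32768) : zE z * elq q = elq q * zE z := by
  rw [elq_eq, ← mul_assoc, zE_mul hz (Nat.mod_lt _ (by norm_num)), Nat.xor_comm,
    ← zE_mul (Nat.mod_lt _ (by norm_num)) hz, mul_assoc, zE_el hz (show q / 4 < 8192 by omega), mul_assoc]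

theorem elq_head (q : ℕ) : elq q = zE (q % 4) * elq (4 * (q / 4)) := by
  conv_lhs => rw [← split_q q]
  exact elq_xor _ (Nat.mod_lt _ (by norm_num))

end H76.RuTwo
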