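import Mathlib
import Cfsg.Agent.H91.Ru.Schur
import Cfsg.Agent.H76.RuTwo.Core
import Cfsg.Agent.H76.RuTwo.Model

/-!
The derived subgroup of the lattice automorphism group is a double cover, with the facts used.
-/

set_option autoImplicit false
set_option maxRecDepth 10000

namespace H76.RuTwo

open Cfsg Cfsg.Spor H91.Ru
open H93.Coset (allRange allRange_spec force_eq)

theorem finite_fourRu : Finite ↥fourRu := Nat.finite_of_card_ne_zero (by rw [card_fourRu]; norm_num)

/-- The derived subgroup. -/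
noncomputable abbrev cov : Subgroup ↥fourRu := twoRu

theorem cov_index : cov.index = 2 := by
  have := twoRu.card_mul_index
  rw [card_twoRu, card_fourRu] at this
  show twoRu.index = 2
  omega

/-- The two words of order fifteen. -/
theorem fifteen : ∀ t : Fin 6,
    ev (((List.replicate 15 [1, 0, 1, 2, 0, 1, 0, 1, 2]).flatMap id)) (baseI.getD t.val 0) = baseI.getD t.val 0 ∧
    ev (((List.replicate 15 [2, 1, 0, 1, 0, 2, 0, 0, 1]).flatMap id)) (baseI.getD t.val 0) = baseI.getD t.val 0 := by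
  decide +kernel

theorem wE_pow (w : List ℕ) : ∀ n, wE ((List.replicate n w).flatMap id) = wE w ^ n
  | 0 => rfl
  | n + 1 => by
    rw [List.replicate_succ, List.flatMap_cons, wE_append, wE_pow w n]
    exact (pow_succ _ _).symm

theorem negE_mem : negE ∈ cov := by rw [negE_eq, ← pow_two]; exact minus_one_mem

theorem gens_mem : genF 0 ∈ cov ∧ genF 1 ∈ cov := by
  have hodd : ∀ φ : ↥fourRu, φ ^ 15 = 1 → φ ∈ cov := fun φ h => by
    rw [show φ = (φ ^ 8) ^ 2 by rw [← pow_mul, show 8 * 2 = 15 + 1 from rfl, pow_succ, h, one_mul]]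
    exact Subgroup.sq_mem_of_index_two cov_index _
  have hI : genF 2 ∉ cov := sI_not_mem
  have h1 : wE [1, 0, 1, 2, 0, 1, 0, 1, 2] ∈ cov :=
    hodd _ (by rw [← wE_pow]; exact (wE_eq (v := []) fun t ht => (fifteen ⟨t, ht⟩).1).trans rfl)
  have h2 : wE [2, 1, 0, 1, 0, 2, 0, 0, 1] ∈ cov :=
    hodd _ (by rw [← wE_pow]; exact (wE_eq (v := []) fun t ht => (fifteen ⟨t, ht⟩).2).trans rfl)
  simp only [wE, gen5, Subgroup.mul_mem_iff_of_index_two cov_index, one_mem] at h1 h2
  by_cases p0 : genF 0 ∈ cov <;> by_cases p1 : genF 1 ∈ cov <;> simp_all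

theorem wE_mem {w : List ℕ} (hw : ∀ g ∈ w, g ≠ 2) : wE w ∈ cov := by
  induction w with
  | nil => exact one_mem _
  | cons g w ih =>
    refine mul_mem (ih fun x hx => hw x (List.mem_cons_of_mem _ hx)) ?_
    have h2 := hw g (List.mem_cons_self ..)
    match g with
    | 0 => exact gens_mem.1
    | 1 => exact gens_mem.2
    | 2 => exact absurd rfl h2
    | 3 => exact inv_mem gens_mem.1
    | g + 4 => exact inv_mem gens_mem.2

theorem letters_ok : ∀ k : Fin 3, (gWord k.val).all (fun g => !(g == 2)) = true := by decide +kernel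

theorem tWord_ok : D.tWord.all (fun g => !(g == 2)) = true := by decide +kernel

theorem gE_mem {k : ℕ} (hk : k < 3) : gE k ∈ cov := wE_mem fun g hg => by
  have := List.all_eq_true.1 (letters_ok ⟨k, hk⟩) g hg
  simpa using this

theorem zE_mem {z : ℕ} (hz : z < 4) : zE z ∈ cov := by
  have h2 : zE 2 ∈ cov := by
    have : zE 2 = wE D.tWord := rfl
    rw [this]
    exact wE_mem fun g hg => by simpa using List.all_eq_true.1 tWord_ok g hg
  interval_cases z
  · exact one_mem _
  · exact negE_mem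
  · exact h2
  · rw [show (3 : ℕ) = 2 ^^^ 1 by decide, ← zE_mul (by norm_num) (by norm_num)]
    exact mul_mem h2 negE_mem

theorem elq_mem {q : ℕ} (hq : q < 32768) : elq q ∈ cov := by
  have : ∀ l : List ℕ, (∀ k ∈ l, k < 3) → wE (l.flatMap gWord) ∈ cov := by
    intro l
    induction l with
    | nil => intro _; exact one_mem _
    | cons k l ih =>
      intro h
      rw [List.flatMap_cons, wE_append]
      exact mul_mem (ih fun x hx => h x (List.mem_cons_of_mem _ hx)) (gE_mem (h k (List.mem_cons_self ..)))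
  rw [elq_eq]
  exact mul_mem (zE_mem (Nat.mod_lt _ (by norm_num))) (this _ (path_lt _ (by omega)))

theorem sylT_le : sylT ≤ cov := by rintro _ ⟨q, hq, rfl⟩; exact elq_mem hq

/-- The central involution of the derived subgroup. -/
noncomputable def negC : ↥cov := ⟨negE, negE_mem⟩

theorem negE_ne_one : negE ≠ 1 := fun h => by
  rw [negE, ← elq_small (by norm_num), ← elq_zero] at h
  exact absurd (elq_inj (by norm_num) (by norm_num) h) (by norm_num)

theorem cov_ker {a : ↥cov} (h : projRu a = 1) : a = 1 ∨ a = negC := by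
  have hm : (a : ↥fourRu) ∈ Subgroup.zpowers (sI ^ 2) := projRu_ker ▸ ⟨a, h, rfl⟩
  obtain ⟨k, hk⟩ := hm
  have hk' : (sI ^ 2) ^ k = (a : ↥fourRu) := hk
  rcases Int.even_or_odd' k with ⟨m, rfl | rfl⟩
  · refine Or.inl (Subtype.ext ?_)
    rw [← hk', zpow_mul, zpow_two, ← pow_two, ← pow_mul, sI_four, one_zpow]
    rfl
  · refine Or.inr (Subtype.ext ?_)
    rw [← hk', zpow_add_one, zpow_mul, zpow_two, ← pow_two, ← pow_mul, sI_four, one_zpow, one_mul, pow_two]
    exact negE_eq.symm

/-! ### the Sylow subgroup and the facts -/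

/-- The subgroup of coded elements inside the derived subgroup. -/
noncomputable def covT : Subgroup ↥cov := sylT.subgroupOf cov

theorem covT_card : Nat.card covT = 32768 := by
  rw [covT, Nat.card_congr (Subgroup.subgroupOfEquivOfLe sylT_le).toEquiv, sylT_card]

theorem exists_sylow : ∃ S : Sylow 2 ↥cov, (S : Subgroup ↥cov) = covT := by
  haveI : Fact (Nat.Prime 2) := ⟨Nat.prime_two⟩
  have hp : IsPGroup 2 covT := IsPGroup.of_card (n := 15) (by rw [covT_card]; norm_num)
  have hidx : ¬ 2 ∣ covT.index := by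
    have := covT.card_mul_index
    rw [covT_card, card_twoRu] at this
    omega
  exact ⟨hp.toSylow hidx, rfl⟩

/-- Being conjugate to one of the two roots. -/
def Rooted (q : ℕ) : Prop :=
  ∃ r, (r = 2 ∨ r = 3) ∧ ∃ a ∈ cov, a * elq q * a⁻¹ = elq r

theorem rooted_flip {q : ℕ} (h : Rooted q) : Rooted (q ^^^ 1) := by
  obtain ⟨r, hr, a, ha, e⟩ := h
  refine ⟨r ^^^ 1, by rcases hr with rfl | rfl <;> decide, a, ha, ?_⟩
  rw [elq_xor _ (by norm_num : 1 < 4), elq_xor _ (by norm_num : 1 < 4), ← e, show zE 1 = negE from rfl]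
  rw [← mul_assoc a negE, negE_central a]
  group

theorem rootOK_spec {q : ℕ} (hq : q < 32768) (h : rootOK q = true) : Rooted q := by
  simp only [rootOK, List.any_eq_true, Bool.and_eq_true, Bool.or_eq_true, Nat.beq_eq, List.all_eq_true,
    Nat.blt_eq, Bool.not_eq_true'] at h
  obtain ⟨e, -, rfl, hr, hw, hrel⟩ := h
  refine ⟨e.2.1, hr, wE e.2.2, wE_mem fun g hg hg2 => ?_, ?_⟩
  · have := (hw g hg).2
    subst hg2
    simp at this
  · have heq : wE (qWord e.1 ++ e.2.2) = wE (e.2.2 ++ qWord e.2.1) := wE_eq fun t ht => by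
      have := allRange_spec hrel t (Nat.zero_le _) (by omega)
      rwa [Nat.beq_eq] at this
    rw [wE_append, wE_append] at heq
    rw [elq, heq, mul_inv_cancel_right]
    rfl

theorem list_spec : ∀ (l : List (ℕ × ℕ × ℕ)) (seen : ℕ), invListOK l seen = true →
    (∀ j, Nat.testBit seen j = true → Rooted j) → ∀ e ∈ l, e.1 < 32768 ∧ Rooted e.1
  | [], _, _, _, e, he => absurd he List.not_mem_nil
  | e₀ :: l, seen, h, hseen, e, he => by
    simp only [invListOK, Bool.and_eq_true, Nat.beq_eq, Nat.blt_eq] at h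
    obtain ⟨⟨hlt, -, hcase⟩, hrest⟩ := h
    have h0 : Rooted e₀.1 := by
      cases hb : Nat.beq e₀.2.1 3 with
      | true => rw [hb, cond_true] at hcase; exact rootOK_spec hlt hcase
      | false =>
        rw [hb, cond_false] at hcase
        simp only [Bool.and_eq_true, Nat.beq_eq, Nat.blt_eq] at hcase
        obtain ⟨hk, hq', hseen', hrel⟩ := hcase
        have h' : Rooted e₀.2.2 := by
          rcases Nat.mod_two_eq_zero_or_one e₀.2.2 with hp | hp
          · simpa [hp] using hseen _ hseen'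
          · rw [hp] at hseen'
            have := rooted_flip (hseen _ hseen')
            have he2 : (e₀.2.2 - 1) ^^^ 1 = e₀.2.2 := by
              have := Nat.xor_mod_two_pow (a := e₀.2.2 - 1) (b := 1) (n := 1)
              have := Nat.shiftRight_xor_distrib (a := e₀.2.2 - 1) (b := 1) (i := 1)
              simp only [Nat.shiftRight_eq_div_pow, pow_one] at *
              rw [Nat.xor_zero] at this
              rw [show (e₀.2.2 - 1) % 2 = 0 by omega, Nat.zero_xor] at *
              omega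
            rwa [he2] at this
        obtain ⟨r, hr, a, ha, e1⟩ := h'
        refine ⟨r, hr, a * gE e₀.2.1, mul_mem ha (gE_mem hk), ?_⟩
        have hc := congrArg elq hrel
        rw [elq_step hk hlt, (mulq_spec (gCode_lt hk) hq').2, elq_gCode hk] at hc
        rw [← e1, mul_assoc a, hc]
        group
    rcases List.mem_cons.1 he with rfl | he
    · exact ⟨hlt, h0⟩
    · refine list_spec l _ hrest (fun j hj => ?_) e he
      rw [Nat.testBit_lor, Bool.or_eq_true] at hj
      rcases hj with hj | hj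
      · exact hseen j hj
      · rw [Nat.testBit_two_pow, decide_eq_true_iff] at hj
        exact hj ▸ h0

theorem mask_spec : ∀ (l : List (ℕ × ℕ × ℕ)) (j : ℕ), Nat.testBit (invMask l) j = true → ∃ e ∈ l, e.1 = j
  | [], j, h => by simp [invMask] at h
  | e :: l, j, h => by
    rw [invMask, Nat.testBit_lor, Bool.or_eq_true] at h
    rcases h with h | h
    · rw [Nat.testBit_two_pow, decide_eq_true_iff] at h
      exact ⟨e, List.mem_cons_self .., h⟩
    · obtain ⟨e', he, h'⟩ := mask_spec l j h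
      exact ⟨e', List.mem_cons_of_mem _ he, h'⟩

theorem rooted_invol {q : ℕ} (hq : q < 32768) (h2 : elq q * elq q = 1) (h0 : q ≠ 0) (h1 : q ≠ 1) :
    Rooted q := by
  have hi : q / 4 < 8192 := by omega
  have hz : q % 4 < 4 := Nat.mod_lt _ (by norm_num)
  have hq4 : 4 * (q / 4) < 32768 := by omega
  have hsq : elq (mulq (4 * (q / 4)) (4 * (q / 4))) = 1 := by
    rw [(mulq_spec hq4 hq4).2]
    rw [elq_head q, mul_assoc, ← mul_assoc (elq (4 * (q / 4))), ← zE_elq hz hq4, mul_assoc, ← mul_assoc,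
      zE_sq hz, one_mul] at h2
    exact h2
  have hm : mulq (4 * (q / 4)) (4 * (q / 4)) = 0 := elq_eq_one (mulq_spec hq4 hq4).1 hsq
  by_cases hi0 : q / 4 = 0
  · have : q = 2 ∨ q = 3 := by omega
    exact ⟨q, this, 1, one_mem _, by rw [one_mul, inv_one, mul_one]⟩
  have e := invComplete_ok
  rw [invCompleteChk, force_eq] at e
  have e' := allRange_spec e (q / 4) (Nat.one_le_iff_ne_zero.2 hi0) (by omega)
  rw [hm] at e'
  simp only [show Nat.beq 0 0 = true from rfl, Bool.not_true, Bool.false_or, Bool.and_eq_true] at e'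
  have hr : ∀ j, Nat.testBit (invMask D.invOrder) j = true → Rooted j := fun j hj => by
    obtain ⟨e, he, rfl⟩ := mask_spec _ j hj
    exact (list_spec _ 0 invList_ok (fun j hj => by simp at hj) e he).2
  have hx := split_q q
  interval_cases hz' : q % 4
  · exact (show q = 4 * (q / 4) by omega) ▸ hr _ e'.1
  · rw [← hx]; exact rooted_flip (hr _ e'.1)
  · exact (show q = 4 * (q / 4) + 2 by omega) ▸ hr _ e'.2
  · have hx' := split_q (4 * (q / 4) + 2)
    rw [show (4 * (q / 4) + 2) / 4 = q / 4 by omega, show (4 * (q / 4) + 2) % 4 = 2 by omega] at hx'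
    rw [← hx, show (3 : ℕ) = 2 ^^^ 1 by decide, ← Nat.xor_assoc, hx']
    exact rooted_flip (hr _ e'.2)

theorem coverFacts_cov : CoverFacts negC := by
  haveI := finite_fourRu
  haveI : Fact (Nat.Prime 2) := ⟨Nat.prime_two⟩
  obtain ⟨S, hS⟩ := exists_sylow
  have hmem : ∀ a : ↥cov, a ∈ (S : Subgroup ↥cov) ↔ ∃ q < 32768, elq q = (a : ↥fourRu) := fun a => by
    rw [hS]; exact Subgroup.mem_subgroupOf
  have hconj : ∀ a : ↥cov, (∃ n, a ^ 2 ^ n = 1) → ∃ g : ↥cov, g * a * g⁻¹ ∈ (S : Subgroup ↥cov) := fun a ⟨n, hn⟩ => by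
    obtain ⟨k, -, hk⟩ := (Nat.dvd_prime_pow Nat.prime_two).1 (orderOf_dvd_of_pow_eq_one hn)
    obtain ⟨Q, hQ⟩ := (IsPGroup.of_card (n := k) (by rw [Nat.card_zpowers, hk]) :
      IsPGroup 2 (Subgroup.zpowers a)).exists_le_sylow
    obtain ⟨g, hg⟩ := MulAction.exists_smul_eq ↥cov Q S
    refine ⟨g, ?_⟩
    rw [← hg, Sylow.coe_subgroup_smul]
    exact Subgroup.smul_mem_pointwise_smul _ (MulAut.conj g) _ (hQ (Subgroup.mem_zpowers a))
  have hnc : ∀ g : ↥cov, g * negC * g⁻¹ = negC := fun g => Subtype.ext (by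
    show (g : ↥fourRu) * negE * (g : ↥fourRu)⁻¹ = negE
    rw [negE_central, mul_inv_cancel_right])
  have hneg1 : elq 1 = negE := elq_small (by norm_num)
  constructor
  · intro a ha
    obtain ⟨g, hg⟩ := hconj a ⟨3, by
      rw [show (2 : ℕ) ^ 3 = 4 * 2 from rfl, pow_mul, ha]
      exact Subtype.ext (by show negE ^ 2 = 1; rw [pow_two]; exact zE_sq (by norm_num))⟩
    obtain ⟨q, hq, e⟩ := (hmem _).1 hg
    have h4 : (g * a * g⁻¹) ^ 4 = negC := by rw [conj_pow, ha, hnc]
    have h4' : elq q ^ 4 = negE := by rw [e]; exact congrArg Subtype.val h4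
    have hq4 : 4 * (q / 4) < 32768 := by omega
    have hz : q % 4 < 4 := Nat.mod_lt _ (by norm_num)
    rw [elq_head q, Commute.mul_pow (zE_elq hz hq4), show (4 : ℕ) = 2 * 2 from rfl, pow_mul, pow_two (zE _),
      zE_sq hz, one_pow, one_mul, pow_mul, pow_two, pow_two] at h4'
    have hm := mulq_spec hq4 hq4
    have hm2 := mulq_spec hm.1 hm.1
    have := elq_inj hm2.1 (by norm_num : (1 : ℕ) < 32768) (by rw [hm2.2, hm.2, h4', hneg1])
    have ec := group_ok (q / 4) (by omega)
    simp only [groupChk, Bool.and_eq_true] at ec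
    rw [this] at ec
    simp at ec
  · intro u hu hune
    have hu2 : u * u = 1 := by
      have := pow_orderOf_eq_one u
      rwa [hu, pow_two] at this
    obtain ⟨g, hg⟩ := hconj u ⟨1, by rw [pow_one, pow_two]; exact hu2⟩
    obtain ⟨q, hq, e⟩ := (hmem _).1 hg
    have hsq : elq q * elq q = 1 := by
      rw [e, ← Subgroup.coe_mul, show g * u * g⁻¹ * (g * u * g⁻¹) = g * (u * u) * g⁻¹ by group, hu2]
      simp
    have hq0 : q ≠ 0 := fun h => by
      rw [h, elq_zero] at e
      have hu1 : u = 1 := by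
        have : g * u * g⁻¹ = 1 := Subtype.ext e.symm
        exact conj_eq_one_iff.1 this
      rw [hu1, orderOf_one] at hu
      omega
    have hq1 : q ≠ 1 := fun h => by
      rw [h, hneg1] at e
      apply hune
      have : g * u * g⁻¹ = negC := Subtype.ext e.symm
      rw [← hnc g] at this
      exact mul_left_cancel (mul_right_cancel this)
    obtain ⟨r, hr, a, ha, ea⟩ := rooted_invol hq hsq hq0 hq1
    let b : ↥cov := ⟨a, ha⟩ * g
    have hr4 : r < 4 := by omega
    have hb : ((b * u * b⁻¹ : ↥cov) : ↥fourRu) = elq r := by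
      rw [← ea, e]
      simp [b, mul_assoc]
    obtain ⟨x, hx, hx4⟩ : ∃ x < 32768, elq x ^ 4 = elq r := by
      have e4 := four_ok
      simp only [fourChk, Bool.and_eq_true, Nat.beq_eq, Nat.blt_eq] at e4
      have hgen : ∀ i, i < 8192 → ∀ r, mulq (mulq (4 * i) (4 * i)) (mulq (4 * i) (4 * i)) = r →
          ∃ x < 32768, elq x ^ 4 = elq r := fun i hi r h => by
        have hi4 : 4 * i < 32768 := by omega
        have hm := mulq_spec hi4 hi4
        refine ⟨4 * i, hi4, ?_⟩
        rw [← h, (mulq_spec hm.1 hm.1).2, hm.2]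
        simp [pow_succ, mul_assoc]
      rcases hr with rfl | rfl
      · exact hgen _ e4.1.2 _ e4.1.1
      · exact hgen _ e4.2.2 _ e4.2.1
    refine ⟨b⁻¹ • S, fun y hy => ?_, b⁻¹ * ⟨elq x, elq_mem hx⟩ * b, ?_⟩
    · have hy' : b * y * b⁻¹ ∈ (S : Subgroup ↥cov) := by
        rw [Sylow.coe_subgroup_smul, Subgroup.mem_pointwise_smul_iff_inv_smul_mem] at hy
        simpa [MulAut.smul_def, MulAut.conj_apply] using hy
      obtain ⟨p, hp, ep⟩ := (hmem _).1 hy'
      have hcomm : b * y * b⁻¹ * (b * u * b⁻¹) = b * u * b⁻¹ * (b * y * b⁻¹) := Subtype.ext (by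
        show ((b * y * b⁻¹ : ↥cov) : ↥fourRu) * ((b * u * b⁻¹ : ↥cov) : ↥fourRu) =
          ((b * u * b⁻¹ : ↥cov) : ↥fourRu) * ((b * y * b⁻¹ : ↥cov) : ↥fourRu)
        rw [hb, ← ep, elq_small hr4]
        exact (zE_elq hr4 hp).symm)
      calc y * u = b⁻¹ * (b * y * b⁻¹ * (b * u * b⁻¹)) * b := by group
        _ = b⁻¹ * (b * u * b⁻¹ * (b * y * b⁻¹)) * b := by rw [hcomm]
        _ = u * y := by group
    · have h : (⟨elq x, elq_mem hx⟩ : ↥cov) ^ 4 = b * u * b⁻¹ := Subtype.ext (by
        rw [hb]; exact hx4)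
      have hc := conj_pow (a := b⁻¹) (b := (⟨elq x, elq_mem hx⟩ : ↥cov)) (i := 4)
      rw [inv_inv] at hc
      rw [hc, h]
      group
  · intro T s hs hcen
    obtain ⟨g, hg⟩ := MulAction.exists_smul_eq ↥cov T S
    have hin : ∀ y ∈ (T : Subgroup ↥cov), g * y * g⁻¹ ∈ (S : Subgroup ↥cov) := fun y hy => by
      rw [← hg, Sylow.coe_subgroup_smul]
      exact Subgroup.smul_mem_pointwise_smul _ (MulAut.conj g) _ hy
    have hall : ∀ p < 32768, ∃ y ∈ (T : Subgroup ↥cov), elq p = ((g * y * g⁻¹ : ↥cov) : ↥fourRu) := fun p hp => by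
      have : (⟨elq p, elq_mem hp⟩ : ↥cov) ∈ ((g • T : Sylow 2 ↥cov) : Subgroup ↥cov) := by
        rw [hg]; exact (hmem _).2 ⟨p, hp, rfl⟩
      rw [Sylow.coe_subgroup_smul, Subgroup.mem_pointwise_smul_iff_inv_smul_mem] at this
      refine ⟨g⁻¹ * ⟨elq p, elq_mem hp⟩ * g, by simpa [MulAut.smul_def, MulAut.conj_apply] using this, ?_⟩
      simp [mul_assoc]
    obtain ⟨q, hq, e⟩ := (hmem _).1 (hin s hs)
    have hq4 : 4 * (q / 4) < 32768 := by omega
    have hz : q % 4 < 4 := Nat.mod_lt _ (by norm_num)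
    have hi : q / 4 < 8192 := by omega
    have hcomm : ∀ p < 32768, elq p * elq (4 * (q / 4)) = elq (4 * (q / 4)) * elq p := fun p hp => by
      obtain ⟨y, hy, ey⟩ := hall p hp
      have h1 : elq p * elq q = elq q * elq p := by
        rw [e, ey, ← Subgroup.coe_mul, ← Subgroup.coe_mul]
        congr 1
        calc g * y * g⁻¹ * (g * s * g⁻¹) = g * (y * s) * g⁻¹ := by group
          _ = g * (s * y) * g⁻¹ := by rw [hcen y hy]
          _ = g * s * g⁻¹ * (g * y * g⁻¹) := by group
      rw [elq_head q, ← mul_assoc, ← zE_elq hz hp, mul_assoc, mul_assoc] at h1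
      exact mul_left_cancel h1
    have hi0 : q / 4 = 0 := by
      have ec := group_ok (q / 4) hi
      simp only [groupChk, Bool.and_eq_true, Bool.or_eq_true, Bool.not_eq_true', Nat.beq_eq, Nat.blt_eq] at ec
      rcases ec.2.2 with h | ⟨h, hw⟩
      · exact h
      · exfalso
        set w := lk 16 D.cwit (q / 4)
        have heq : step w (4 * (q / 4)) = mulq (gCode w) (4 * (q / 4)) :=
          elq_inj (step_lt hw hq4) (mulq_spec (gCode_lt hw) hq4).1 (by
            rw [elq_step hw hq4, (mulq_spec (gCode_lt hw) hq4).2, ← elq_gCode hw]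
            exact hcomm _ (gCode_lt hw))
        rw [heq] at h
        simp at h
    have hs2 : (g * s * g⁻¹) ^ 2 = 1 := Subtype.ext (by
      show ((g * s * g⁻¹ : ↥cov) : ↥fourRu) ^ 2 = 1
      rw [← e, elq_head q, hi0, elq_zero, mul_one, pow_two]
      exact zE_sq hz)
    rw [conj_pow] at hs2
    exact conj_eq_one_iff.1 hs2

end H76.RuTwo
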