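import Mathlib
import Cfsg.Agent.H91.Ru.Schur
import Cfsg.Agent.H76.RuTwo.Core

/-!
A perfect double cover of the Rudvalis group is the derived subgroup of the lattice automorphism group.
-/

set_option autoImplicit false

namespace H76.RuTwo

open Cfsg Cfsg.Spor H91.Ru
open scoped commutatorElement

universe u

/-- Stem extensions in every universe have kernel of order at most two. -/
theorem stem_le {Γ : Type u} [Group Γ] [Finite Γ] (σ : Γ →* Ru) (h : IsStemExtension σ) :
    Nat.card σ.ker ≤ 2 := by
  classical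
  obtain ⟨hs, hc, hk⟩ := h
  let f : Γ →* Equiv.Perm (Fin (Nat.card Γ)) :=
    (Finite.equivFin Γ).permCongrHom.toMonoidHom.comp (MulAction.toPermHom Γ Γ)
  have hf : Function.Injective f :=
    (Finite.equivFin Γ).permCongrHom.injective.comp MulAction.toPerm_injective
  let e : Γ ≃* f.range := MonoidHom.ofInjective hf
  let τ : f.range →* Ru := σ.comp e.symm.toMonoidHom
  have hst : IsStemExtension τ := by
    refine ⟨hs.comp e.symm.surjective, fun x hx => ?_, fun x hx => ?_⟩
    · refine Subgroup.mem_center_iff.2 fun y => e.symm.injective ?_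
      rw [map_mul, map_mul]
      exact Subgroup.mem_center_iff.1 (hc (show e.symm x ∈ σ.ker from hx)) (e.symm y)
    · have hm : e.symm x ∈ commutator Γ := hk hx
      have := Subgroup.mem_map_of_mem e.toMonoidHom hm
      rw [commutator_def, Subgroup.map_commutator, Subgroup.map_top_of_surjective e.toMonoidHom e.surjective] at this
      rw [commutator_def]
      simpa using this
  obtain ⟨π, hπ⟩ := schur_Ru.2 f.range τ hst
  have hle := Nat.card_le_card_of_surjective π hπ
  rw [Nat.card_eq_fintype_card (α := Multiplicative (ZMod 2)), Fintype.card_multiplicative, ZMod.card] at hle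
  have heq : Nat.card σ.ker = Nat.card τ.ker := Nat.card_congr (e.toEquiv.subtypeEquiv fun a => by
    show σ a = 1 ↔ σ (e.symm (e a)) = 1
    rw [e.symm_apply_apply])
  omega

/-- The derived subgroup is perfect if it covers the central quotient. -/
theorem derived_perfect {P : Type*} [Group P]
    (h : ∀ w : P, ∃ d ∈ commutator P, d⁻¹ * w ∈ Subgroup.center P) :
    commutator ↥(commutator P) = ⊤ := by
  refine eq_top_iff.2 fun x _ => ?_
  have hle : commutator P ≤ (commutator ↥(commutator P)).map (commutator P).subtype := by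
    rw [Subgroup.map_subtype_commutator]
    conv_lhs => rw [commutator_def]
    rw [Subgroup.commutator_le]
    intro a _ b _
    obtain ⟨c, hc, hu⟩ := h a
    obtain ⟨d, hd, hv⟩ := h b
    have cu := Subgroup.mem_center_iff.1 hu
    have cv := Subgroup.mem_center_iff.1 hv
    obtain ⟨k, rfl⟩ : ∃ k, a = c * k := ⟨c⁻¹ * a, (mul_inv_cancel_left _ _).symm⟩
    obtain ⟨l, rfl⟩ : ∃ l, b = d * l := ⟨d⁻¹ * b, (mul_inv_cancel_left _ _).symm⟩
    simp only [inv_mul_cancel_left] at cu cv
    rw [show ⁅c * k, d * l⁆ = ⁅c, d⁆ from by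
      simp only [commutatorElement_def, mul_inv_rev]
      calc c * k * (d * l) * (k⁻¹ * c⁻¹) * (l⁻¹ * d⁻¹)
          = c * (k * d) * l * k⁻¹ * c⁻¹ * l⁻¹ * d⁻¹ := by group
        _ = c * d * ((k * l) * k⁻¹) * c⁻¹ * l⁻¹ * d⁻¹ := by rw [← cu d]; group
        _ = c * d * (l * c⁻¹) * l⁻¹ * d⁻¹ := by rw [← cu l, mul_inv_cancel_right]; group
        _ = c * d * c⁻¹ * d⁻¹ := by rw [← cv c⁻¹]; group]
    exact Subgroup.commutator_mem_commutator hc hd
  obtain ⟨y, hy, e⟩ := hle x.2
  exact (Subtype.ext e : y = x) ▸ hy

attribute [local irreducible] twoRu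

set_option maxHeartbeats 800000 in
/-- A perfect double cover is the known one. -/
theorem cover_iso {H : Type u} [Group H] [Finite H] (hperf : commutator H = ⊤) (π : H →* Ru)
    (hπ : Function.Surjective π) (hc : π.ker ≤ Subgroup.center H) (h2 : Nat.card π.ker = 2) :
    ∃ e : ↥twoRu ≃* H, ∀ a, π (e a) = projRu a := by
  haveI : Finite ↥twoRu := Nat.finite_of_card_ne_zero (by rw [card_twoRu]; norm_num)
  let P : Subgroup (H × ↥twoRu) := (π.comp (MonoidHom.fst _ _)).eqLocus (projRu.comp (MonoidHom.snd _ _))
  let p1 : P →* H := (MonoidHom.fst _ _).comp P.subtype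
  let p2 : P →* ↥twoRu := (MonoidHom.snd _ _).comp P.subtype
  have h1 : Function.Surjective p1 := fun a => by
    obtain ⟨b, hb⟩ := projRu_surjective (π a)
    exact ⟨⟨(a, b), hb.symm⟩, rfl⟩
  have h2' : Function.Surjective p2 := fun b => by
    obtain ⟨a, ha⟩ := hπ (projRu b)
    exact ⟨⟨(a, b), ha⟩, rfl⟩
  have hmap : ∀ {Q : Type u} [Group Q] (q : P →* Q), Function.Surjective q → commutator Q = ⊤ →
      Function.Surjective (q.comp (commutator P).subtype) := fun {Q} _ q hq hQ y => by
    have hy : y ∈ (commutator P).map q := by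
      rw [commutator_def, Subgroup.map_commutator, Subgroup.map_top_of_surjective _ hq, ← commutator_def, hQ]
      trivial
    obtain ⟨x, hx, e⟩ := hy
    exact ⟨⟨x, hx⟩, e⟩
  have hd1 : Function.Surjective (p1.comp (commutator P).subtype) := hmap p1 h1 hperf
  have hd2 : Function.Surjective (p2.comp (commutator P).subtype) := fun y => by
    have hy : y ∈ (commutator P).map p2 := by
      rw [commutator_def, Subgroup.map_commutator, Subgroup.map_top_of_surjective _ h2', ← commutator_def,
        twoRu_perfect]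
      trivial
    obtain ⟨x, hx, e⟩ := hy
    exact ⟨⟨x, hx⟩, e⟩
  let σ : ↥(commutator P) →* Ru := π.comp (p1.comp (commutator P).subtype)
  have hσ : Function.Surjective σ := hπ.comp hd1
  have hcen : ∀ w : P, π (p1 w) = 1 → w ∈ Subgroup.center P := fun w hw => by
    have e1 : (w : H × ↥twoRu).1 ∈ Subgroup.center H := hc hw
    have e2 : (w : H × ↥twoRu).2 ∈ Subgroup.center ↥twoRu := ker_le_center (w.2.symm.trans hw)
    exact Subgroup.mem_center_iff.2 fun y => Subtype.ext (Prod.ext
      (Subgroup.mem_center_iff.1 e1 _) (Subgroup.mem_center_iff.1 e2 _))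
  have hperfD : commutator ↥(commutator P) = ⊤ := derived_perfect fun w => by
    obtain ⟨d, hd⟩ := hσ (π (p1 w))
    refine ⟨d, d.2, hcen _ ?_⟩
    rw [map_mul, map_inv, map_mul, map_inv, show π (p1 d) = π (p1 w) from hd, inv_mul_cancel]
  have hker : Nat.card σ.ker ≤ 2 := stem_le σ ⟨hσ, fun x hx => Subgroup.mem_center_iff.2 fun y =>
    Subtype.ext (Subgroup.mem_center_iff.1 (hcen _ hx) _), hperfD ▸ le_top⟩
  have hcardH : Nat.card H = 2 * Nat.card Ru := by
    rw [Subgroup.card_eq_card_quotient_mul_card_subgroup π.ker, h2,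
      Nat.card_congr (QuotientGroup.quotientKerEquivOfSurjective _ hπ).toEquiv, mul_comm]
  have hcardT : Nat.card ↥twoRu = 2 * Nat.card Ru := by rw [card_twoRu, card_Ru]
  have hcardD : Nat.card ↥(commutator P) ≤ 2 * Nat.card Ru := by
    rw [Subgroup.card_eq_card_quotient_mul_card_subgroup σ.ker,
      Nat.card_congr (QuotientGroup.quotientKerEquivOfSurjective _ hσ).toEquiv, mul_comm]
    exact Nat.mul_le_mul_right _ hker
  have b1 := Nat.card_le_card_of_surjective _ hd1
  have b2 := Nat.card_le_card_of_surjective _ hd2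
  have i1 : Function.Bijective (p1.comp (commutator P).subtype) :=
    (Nat.bijective_iff_surjective_and_card _).2 ⟨hd1, by omega⟩
  have i2 : Function.Bijective (p2.comp (commutator P).subtype) :=
    (Nat.bijective_iff_surjective_and_card _).2 ⟨hd2, by omega⟩
  refine ⟨(MulEquiv.ofBijective _ i2).symm.trans (MulEquiv.ofBijective _ i1), fun a => ?_⟩
  obtain ⟨x, rfl⟩ := hd2 a
  have e : (MulEquiv.ofBijective _ i2).symm ((p2.comp (commutator P).subtype) x) = x :=
    (MulEquiv.ofBijective _ i2).symm_apply_apply x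
  rw [MulEquiv.trans_apply, e]
  exact x.1.2

/-- The facts do not depend on the model. -/
theorem CoverFacts.of_iso {A B : Type*} [Group A] [Group B] [Finite A] (e : A ≃* B) {z : A} {w : B} (hw : e z = w)
    (h : CoverFacts z) : CoverFacts w := by
  subst hw
  haveI : Finite B := Finite.of_equiv A e.toEquiv
  constructor
  · intro b hb
    apply h.no_fourth (e.symm b)
    apply e.injective
    rw [map_pow, e.apply_symm_apply, hb]
  · intro v hv hne
    obtain ⟨T, hT, x, hx⟩ := h.invol (e.symm v) (by rwa [MulEquiv.orderOf_eq])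
      (fun he => hne (by rw [← he, e.apply_symm_apply]))
    refine ⟨T.mapSurjective (f := e.toMonoidHom) e.surjective, fun y hy => ?_, e x, ?_⟩
    · obtain ⟨x', hx', rfl⟩ := (show y ∈ (T : Subgroup A).map e.toMonoidHom from hy)
      have := congrArg e (hT x' hx')
      simpa using this
    · rw [← map_pow, hx, e.apply_symm_apply]
  · intro T s hs hcs
    have hmem : ∀ x, x ∈ ((T.mapSurjective (f := e.symm.toMonoidHom) e.symm.surjective : Sylow _ A) : Subgroup A) ↔
        e x ∈ (T : Subgroup B) := fun x => by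
      show x ∈ (T : Subgroup B).map e.symm.toMonoidHom ↔ _
      exact Subgroup.mem_map_equiv
    have := h.central _ (e.symm s) ((hmem _).2 (by rwa [e.apply_symm_apply])) fun x hx => by
      apply e.injective
      rw [map_mul, map_mul, e.apply_symm_apply]
      exact hcs _ ((hmem _).1 hx)
    apply e.symm.injective
    rw [map_pow, this, map_one]

end H76.RuTwo
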